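import Cfsg.Agent.Lib.Fusion.SatCriterion.Main
import Cfsg.Agent.Lib.Fusion.LayerCore
import Cfsg.Agent.Lib.Fusion.Inter.UpDown

/-!
# Automizers generated from above, and extensions along chains

Two facts about an arbitrary fusion system: below saturated classes the automizer of a fully
normalized subgroup is generated by its inner part and its elements of order prime to `p`; and
extension of the coprime elements of a group of automorphisms gives extension of all its elements.
-/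

set_option autoImplicit false
set_option linter.unusedSectionVars false

namespace CfsgLib.Fusion.NormalProduct

open Cfsg Cfsg.FusionSystem CfsgLib.Fusion CfsgLib.Fusion.SatCriterion
open CfsgLib.Fusion.Inter hiding Setup

variable {Ω : Type*} [Group Ω] {S : Subgroup Ω} {F : Cfsg.FusionSystem S} {p : ℕ}
variable {P Q R W X : Subgroup Ω}

/-- The automorphisms generated by `Aut_S(P)` and the elements of `Aut_F(P)` of order prime to `p`. -/
def genAut (F : Cfsg.FusionSystem S) (p : ℕ) (P : Subgroup Ω) : Subgroup (MulAut P) :=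
  Subgroup.closure ((autInducedBy S P : Set (MulAut P)) ∪
    {a | a ∈ F.autGroup P ∧ (orderOf a).Coprime p})

theorem autInducedBy_le_genAut : autInducedBy S P ≤ genAut F p P := fun _ ha =>
  Subgroup.subset_closure (Or.inl ha)

theorem coprime_mem_genAut {a : MulAut P} (ha : a ∈ F.autGroup P) (hco : (orderOf a).Coprime p) :
    a ∈ genAut F p P := Subgroup.subset_closure (Or.inr ⟨ha, hco⟩)

variable [Finite S] [Fact p.Prime]

/-- The stabilizer of a best pair restricts into `genAut`. -/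
theorem pairRes_mem_genAut {U : Subgroup Ω} (hB : Best F p R U) (b : pairStab F R U) :
    pairRes hB.le b ∈ genAut F p U := by
  have : Finite R := finite_of_le hB.leS
  have : Finite (MulAut R) := finite_mulAut
  obtain ⟨Sy, hSy⟩ := hB.sylow
  suffices h : (genAut F p U).comap (pairRes hB.le) = ⊤ from h.ge (Subgroup.mem_top b)
  refine LayerCore.eq_top_of_sylow_of_coprime _ Sy (fun c hc => ?_) fun c hc => ?_
  · rw [hSy] at hc
    obtain ⟨t, ht, hct⟩ := (mem_pairAut_iff hB.le).1 hc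
    refine autInducedBy_le_genAut ?_
    rw [show pairRes hB.le c = conjAut U t ht.2 from MulEquiv.ext fun x => Subtype.ext (by
      rw [pairRes_apply, show (c : MulAut R) = conjAut R t ht.1.2 from hct]
      rfl)]
    exact conjAut_mem_autInducedBy ht.1.1 _
  · exact coprime_mem_genAut (pairRes_mem hB.le hB.leS c)
      (Nat.Coprime.coprime_dvd_left (orderOf_map_dvd _ _) hc)

/-- Links between copies of `P` restrict into `genAut`. -/
theorem res_mem_genAut (hS : IsPGroup p S) (hPS : P ≤ S)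
    (hext : ∀ Q, F.IsConj Q P → ∃ g : Q ≃* P, ExtN F g) (hbig : Big F p (Nat.card P)) :
    ∀ (R R' : Subgroup Ω) (e : R ≃* R') (l : Linked F P P e), P < R →
      l.res ∈ genAut F p P := by
  set A := genAut F p P
  intro R
  induction hk : Nat.card S - Nat.card R using Nat.strong_induction_on generalizing R with
  | _ k ih =>
  intro R' e l hPR
  have : Finite (normalizerIn S P) := finite_of_le (normalizerIn_le S P)
  obtain ⟨R₀, e₁, l₁, hB⟩ :=
    exists_best_at hS hext hbig hPR l.iso.le_left l.norm (isConj_refl F hPS)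
  have hR₀N : R₀ ≤ normalizerIn S P := le_inf hB.leS hB.norm
  have hRc : Nat.card R₀ = Nat.card R := (Nat.card_congr e₁.toEquiv).symm
  have hR'c : Nat.card R' = Nat.card R := (Nat.card_congr e.toEquiv).symm
  by_cases hfull : normalizerIn S P ≤ R
  · have hRN : R = normalizerIn S P := le_antisymm (linked_le_normalizerIn l) hfull
    subst hRN
    obtain rfl : R' = normalizerIn S P :=
      Subgroup.eq_of_le_of_card_ge (linked_le_normalizerIn l.symm) hR'c.ge
    obtain rfl : R₀ = normalizerIn S P := Subgroup.eq_of_le_of_card_ge hR₀N hRc.ge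
    have h1 := pairRes_mem_genAut hB ⟨(e : MulAut _),
      (mem_autGroup_iff hB.leS).2 l.iso, l.compat⟩
    convert h1 using 1
    exact MulEquiv.ext fun x => Subtype.ext rfl
  have hlt : ∀ {R₂ : Subgroup Ω}, R₂ ≤ normalizerIn S P → Nat.card R₂ = Nat.card R →
      R₂ < normalizerIn S P := fun hle hc => lt_of_le_of_ne hle fun h => by
    refine hfull (Subgroup.eq_of_le_of_card_ge (linked_le_normalizerIn l) ?_).ge
    rw [← h, hc]
  have hside : ∀ {R₂ : Subgroup Ω} {f : R₂ ≃* R₀} (lf : Linked F P P f), P < R₂ →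
      lf.res ∈ A := by
    intro R₂ f lf hPR₂
    have hR₂ := hlt (linked_le_normalizerIn lf) ((Nat.card_congr f.toEquiv).trans hRc)
    obtain ⟨b, hb, ψ, hψ, -, hag⟩ := hB.exists_map hS lf
    have hR₂X : R₂ ≤ pairNorm S R₂ P := le_pairNorm lf.iso.le_left lf.norm
    have hX : R₂ < pairNorm S R₂ P :=
      lt_of_lt_of_le (lt_normalizerIn (hS.to_le (normalizerIn_le S P)) hR₂) fun g hg =>
        ⟨⟨hg.1.1, hg.2⟩, hg.1.2⟩
    have lf' := lf.trans (linked_of_mem_pairStab hB.leS hB.le hB.norm hb)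
    obtain ⟨e', l', he'⟩ := exists_linked_of_map hψ lf'.res (lf.le.trans hR₂X) inf_le_right
      fun x => hag ⟨x, lf.le x.2⟩ (hR₂X (lf.le x.2))
    have hc : Nat.card R < Nat.card (pairNorm S R₂ P) := by
      rw [← hRc, ← Nat.card_congr f.toEquiv]
      exact Descent.card_lt_card_of_lt pairNorm_le hX
    have hcS := Descent.card_le_of_le (pairNorm_le (S := S) (R := R₂) (U := P))
    have h1 := ih _ (by omega) _ rfl _ _ l' (hPR₂.trans hX)
    have h2 : l'.res = pairRes hB.le ⟨b, hb⟩ * lf.res := MulEquiv.ext fun x => Subtype.ext (by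
      rw [Linked.res_apply, he']
      exact hag ⟨x, lf.le x.2⟩ (hR₂X (lf.le x.2)))
    rw [h2] at h1
    exact (A.mul_mem_cancel_left (pairRes_mem_genAut hB _)).1 h1
  have h1 := hside l₁ hPR
  have h2 := hside (l.symm.trans l₁) (l.lt' hPR)
  rw [show l.res = ((l.symm.trans l₁).res : MulAut P)⁻¹ * l₁.res from by
    rw [eq_inv_mul_iff_mul_eq]
    refine MulEquiv.ext fun x => Subtype.ext ?_
    show ((e₁ (e.symm (e ⟨x, l.le x.2⟩)) : R₀) : Ω) = e₁ ⟨x, l₁.le x.2⟩
    rw [MulEquiv.symm_apply_apply]]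
  exact A.mul_mem (A.inv_mem h2) h1

/-- Below saturated classes, the automizer of a fully normalized subgroup is `genAut`. -/
theorem autGroup_le_genAut (hS : IsPGroup p S) (ℋ : Set (Subgroup Ω))
    (hgen : ∀ E : Cfsg.FusionSystem S, (∀ H ∈ ℋ, F.Hom H ⊆ E.Hom H) → F ≤ E)
    (hP : F.IsFullyNormalized P) (hlt : P < S) (hout : ∀ Q, F.IsConj P Q → Q ∉ ℋ)
    (hbig : Big F p (Nat.card P)) : F.autGroup P ≤ genAut F p P := by
  set A := genAut F p P
  have hPS : P ≤ S := hP.1
  have hext : ∀ Q, F.IsConj Q P → ∃ g : Q ≃* P, ExtN F g := fun Q hQ =>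
    exists_extN hS ℋ hgen hP hlt hout hbig hQ
  have hclaim := res_mem_genAut hS hPS hext hbig
  have hmain : ∀ {Q Q' : Subgroup Ω} (e : Q ≃* Q'), F.IsConj P Q → IsFIso F e →
      ∀ (f : Q ≃* P) (f' : Q' ≃* P), ExtN F f → ExtN F f' →
        (f.symm.trans (e.trans f') : MulAut P) ∈ A := by
    refine class_induction hS ℋ hgen hlt hout
      (fun {Q Q'} e => ∀ (f : Q ≃* P) (f' : Q' ≃* P), ExtN F f → ExtN F f' →
        (f.symm.trans (e.trans f') : MulAut P) ∈ A) ?_ ?_ ?_
    · intro Q Q' Q'' e g hQ he hg h₁ h₂ f f'' hf hf''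
      obtain ⟨f', hf'⟩ := hext Q' (isConj_symm (isConj_trans hQ he.isConj))
      have h := A.mul_mem (h₂ f' f'' hf' hf'') (h₁ f f' hf hf')
      have heq : (f.symm.trans ((e.trans g).trans f'') : MulAut P) =
          (f'.symm.trans (g.trans f'') : MulAut P) * (f.symm.trans (e.trans f') : MulAut P) :=
        MulEquiv.ext fun x => by simp [MulAut.mul_apply]
      exact heq ▸ h
    · intro Q Q' e hQ he h f f' hf hf'
      have h1 := A.inv_mem (h f' f hf' hf)
      have heq : (f.symm.trans (e.symm.trans f') : MulAut P) =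
          (f'.symm.trans (e.trans f) : MulAut P)⁻¹ := by
        refine (inv_eq_of_mul_eq_one_right (MulEquiv.ext fun x => ?_)).symm
        simp [MulAut.mul_apply]
      exact heq ▸ h1
    · intro R R' Q Q' e l hQR hQ r hr f f' hf hf'
      obtain ⟨hQS, ψ, hψ, hag⟩ := hf
      obtain ⟨hQ'S, ψ', hψ', hag'⟩ := hf'
      have hR : R ≤ normalizerIn S Q := linked_le_normalizerIn l
      have hR' : R' ≤ normalizerIn S Q' := linked_le_normalizerIn l.symm
      obtain ⟨e₁, l₁, he₁⟩ := exists_linked_of_map (restrict_mem hψ hR) f l.le l.norm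
        fun x => hag x
      obtain ⟨e₂, l₂, he₂⟩ := exists_linked_of_map (restrict_mem hψ' hR') f' l.le' l.norm'
        fun x => hag' x
      have h := hclaim _ _ _ (l₁.symm.trans (l.trans l₂)) (l₁.lt' hQR)
      have heq : ((l₁.symm.trans (l.trans l₂)).res : MulAut P) =
          (f.symm.trans (r.trans f') : MulAut P) := by
        refine MulEquiv.ext fun x => Subtype.ext ?_
        have h1 : e₁.symm ⟨x, l₁.le' x.2⟩ = ⟨(f.symm x : Ω), l.le (f.symm x).2⟩ := by
          apply e₁.injective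
          rw [MulEquiv.apply_symm_apply]
          refine Subtype.ext ?_
          rw [he₁]
          exact (congrArg Subtype.val (f.apply_symm_apply x)).symm.trans (hag _).symm
        have h2 : e ⟨(f.symm x : Ω), l.le (f.symm x).2⟩ =
            ⟨(r (f.symm x) : Ω), l.le' (r (f.symm x)).2⟩ :=
          Subtype.ext (hr _ _).symm
        rw [Linked.res_apply, MulEquiv.trans_apply, MulEquiv.trans_apply, h1, h2, he₂]
        exact hag' _
      exact heq ▸ h
  intro α hα
  exact hmain (α : P ≃* P) (isConj_refl F hPS) ((mem_autGroup_iff hPS).1 hα)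
    (MulEquiv.refl P) (MulEquiv.refl P) (ExtN.refl hPS) (ExtN.refl hPS)

/-- Extension along a chain: the elements of `U` carrying `Aut_X(P)` into `Aut_W(P)` extend. -/
theorem exists_map_of_chain (hPW : P ≤ W) (hW : W ≤ normalizerIn S P) (U : Subgroup (MulAut P))
    (hsyl : IsSylowIn p (autInducedBy W P) U)
    (hlift : ∀ Y, P ≤ Y → ∀ hY : Y ≤ W,
      (∀ w (hw : w ∈ W), conjAut P w (hW hw).2 ∈ autInducedBy Y P → w ∈ Y) →
      ∀ c ∈ U, (orderOf c).Coprime p →
        (∀ y (hy : y ∈ Y), c * conjAut P y (hW (hY hy)).2 * c⁻¹ ∈ autInducedBy Y P) →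
        ∃ ψ ∈ F.Hom Y, (∀ y, ψ y ∈ Y) ∧
          ∀ (y : Y) (hy : (y : Ω) ∈ P), ψ y = ((c ⟨y, hy⟩ : P) : Ω))
    {u : MulAut P} (hu : u ∈ U) (hPX : P ≤ X) (hX : X ≤ W)
    (hact : ∀ x (hx : x ∈ X), u * conjAut P x (hW (hX hx)).2 * u⁻¹ ∈ autInducedBy W P)
    (hWU : autInducedBy W P ≤ U) :
    ∃ ψ ∈ F.Hom X, (∀ x, ψ x ∈ W) ∧ ∀ y : P, ψ (Subgroup.inclusion hPX y) = (u y : Ω) := by
  have hWS : W ≤ S := hW.trans (normalizerIn_le S P)
  have hPS : P ≤ S := hPW.trans hWS
  have : Finite P := finite_of_le hPS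
  have : Finite (MulAut P) := finite_mulAut
  obtain ⟨Pg, hPg⟩ := hsyl
  suffices key : ∀ (A : Set U) (g : U), AlperinGroup.Chain Pg A g →
      ∀ (X : Subgroup Ω) (hPX : P ≤ X) (hX : X ≤ W),
        (∀ x (hx : x ∈ X), ∃ z ∈ A, (z : MulAut P) = conjAut P x (hW (hX hx)).2) →
        ∃ ψ ∈ F.Hom X, (∀ x, ψ x ∈ W) ∧
          ∀ y : P, ψ (Subgroup.inclusion hPX y) = ((g⁻¹ : U) : MulAut P) y by
    set A : Set U := {z | ∃ x, ∃ hx : x ∈ X, (z : MulAut P) = conjAut P x (hW (hX hx)).2}
    have hA : A ⊆ (Pg : Set U) := by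
      rintro z ⟨x, hx, hz⟩
      rw [SetLike.mem_coe]
      show z ∈ (Pg : Subgroup U)
      rw [hPg, Subgroup.mem_subgroupOf, hz]
      exact conjAut_mem_autInducedBy (hX hx) _
    have hAg : (fun a => ((⟨u, hu⟩ : U)⁻¹)⁻¹ * a * (⟨u, hu⟩ : U)⁻¹) '' A ⊆ (Pg : Set U) := by
      rintro _ ⟨z, ⟨x, hx, hz⟩, rfl⟩
      rw [SetLike.mem_coe]
      show _ ∈ (Pg : Subgroup U)
      rw [hPg, Subgroup.mem_subgroupOf, inv_inv]
      show u * (z : MulAut P) * u⁻¹ ∈ _
      rw [hz]
      exact hact x hx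
    obtain ⟨ψ, hψ, hψW, hψx⟩ := key A _ (AlperinGroup.alperin Pg A _ hA hAg) X hPX hX fun x hx =>
      ⟨⟨_, hWU (conjAut_mem_autInducedBy (hX hx) _)⟩, ⟨x, hx, rfl⟩, rfl⟩
    refine ⟨ψ, hψ, hψW, fun y => ?_⟩
    rw [hψx, inv_inv]
  intro A g hchain
  induction hchain with
  | one A =>
    intro X hPX hX _
    exact ⟨X.subtype, subtype_mem F (hX.trans hWS), fun x => hX x.2, fun y => by simp⟩
  | cons A x g Q hA ht hx _ ih =>
    intro X hPX hX hXA
    set V : Subgroup U := (Pg : Subgroup U) ⊓ (Q : Subgroup U) with hV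
    set Y := ((V.map U.subtype).comap (P.normalizerMonoidHom.comp
      (Subgroup.inclusion (hW.trans inf_le_right : W ≤ Subgroup.normalizer (P : Set Ω))))).map
        W.subtype with hYdef
    have hYW : Y ≤ W := Subgroup.map_subtype_le _
    have hYmem : ∀ y (hy : y ∈ W), y ∈ Y ↔ ∃ v ∈ V, (v : MulAut P) = conjAut P y (hW hy).2 := by
      intro y hy
      constructor
      · rintro ⟨⟨_, hy'⟩, ⟨v, hv, hve⟩, rfl⟩
        exact ⟨v, hv, hve⟩
      · rintro ⟨v, hv, hve⟩
        exact ⟨⟨y, hy⟩, ⟨v, hv, hve⟩, rfl⟩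
    have hXY : X ≤ Y := fun y hy => by
      obtain ⟨z, hz, hze⟩ := hXA y hy
      exact (hYmem y (hX hy)).2 ⟨z, hA hz, hze⟩
    have hPY : P ≤ Y := hPX.trans hXY
    have hYS : Y ≤ S := hYW.trans hWS
    have : Finite Y := finite_of_le hYS
    have hVY : ∀ v ∈ V, ∃ y ∈ Y, ∃ hy : y ∈ W, (v : MulAut P) = conjAut P y (hW hy).2 := by
      intro v hv
      have h1 : v ∈ (Pg : Subgroup U) := hv.1
      rw [hPg, Subgroup.mem_subgroupOf] at h1
      obtain ⟨y, hyN, hyW, hye⟩ := exists_eq_conjAut h1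
      exact ⟨y, (hYmem y hyW).2 ⟨v, hv, hye⟩, hyW, hye⟩
    have hYpre : ∀ w (hw : w ∈ W), conjAut P w (hW hw).2 ∈ autInducedBy Y P → w ∈ Y := by
      intro w hw h1
      obtain ⟨y, hyN, hy, hye⟩ := exists_eq_conjAut h1
      obtain ⟨v, hv, hve⟩ := (hYmem y (hYW hy)).1 hy
      exact (hYmem w hw).2 ⟨v, hv, hve.trans hye.symm⟩
    set NV := Subgroup.normalizer ((V : Subgroup U) : Set U)
    set M : Subgroup NV := ((((F.autGroup Y).comap (setStab Y P).subtype).map (resHom hPY))).comap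
      (U.subtype.comp NV.subtype) with hM
    have hMt : M = ⊤ := by
      have hp : IsPGroup p ((Pg : Subgroup U).subgroupOf NV) := IsPGroup.comap_subtype Pg.2
      have hidx : ¬ p ∣ ((Pg : Subgroup U).subgroupOf NV).index := by
        have h1 := ht.1
        rw [Subgroup.inf_relIndex_right] at h1
        exact h1
      refine LayerCore.eq_top_of_sylow_of_coprime M (hp.toSylow hidx) (fun n hn => ?_) fun n hn => ?_
      · have h1 : (n : U) ∈ (Pg : Subgroup U) := hn
        rw [hPg, Subgroup.mem_subgroupOf] at h1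
        obtain ⟨t, htN, htW, hte⟩ := exists_eq_conjAut h1
        have key : ∀ k : NV, ∀ s, ∀ hs : s ∈ W, ((k : U) : MulAut P) = conjAut P s (hW hs).2 →
            ∀ y ∈ Y, s * y * s⁻¹ ∈ Y := by
          intro k s hs hk y hy
          obtain ⟨v, hv, hve⟩ := (hYmem y (hYW hy)).1 hy
          refine (hYmem _ (mul_mem (mul_mem hs (hYW hy)) (W.inv_mem hs))).2
            ⟨(k : U) * v * (k : U)⁻¹, conj_mem_of_mem_normalizer k.2 hv, ?_⟩
          rw [Subgroup.coe_mul, Subgroup.coe_mul, Subgroup.coe_inv, hk, hve, conjAut_inv (hW hs).2,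
            conjAut_mul, conjAut_mul]
        have htY : t ∈ Subgroup.normalizer (Y : Set Ω) := by
          refine Subgroup.mem_normalizer_iff.2 fun y => ⟨key n t htW hte y, fun hy => ?_⟩
          have h2 := key n⁻¹ t⁻¹ (W.inv_mem htW)
            (by rw [Subgroup.coe_inv, Subgroup.coe_inv, hte, conjAut_inv]) _ hy
          simpa [mul_assoc] using h2
        exact ⟨⟨_, conjAut_mem_setStab htY htN⟩,
          autInducedBy_le_autGroup F hYS (conjAut_mem_autInducedBy (hWS htW) htY),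
          (MulEquiv.ext fun y => Subtype.ext rfl).trans hte.symm⟩
      · set a : MulAut P := ((n : U) : MulAut P) with hadef
        have hao : (orderOf a).Coprime p := by
          rwa [show orderOf a = orderOf n by rw [hadef, Subgroup.orderOf_coe, Subgroup.orderOf_coe]]
        obtain ⟨ψ, hψ, hψY, hψa⟩ := hlift Y hPY hYW hYpre a (n : U).2 hao fun y hy => by
          obtain ⟨v, hv, hve⟩ := (hYmem y (hYW hy)).1 hy
          obtain ⟨y', hy', hy'W, hv'⟩ := hVY _ (conj_mem_of_mem_normalizer n.2 hv)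
          rw [← hve]
          have h5 := conjAut_mem_autInducedBy (P := P) hy' (hW hy'W).2
          rw [← hv'] at h5
          exact h5
        obtain ⟨b, hb, hbx⟩ := LayerCore.exists_aut_of_mapsTo hψ hψY
        have hba : ∀ y : P, b (Subgroup.inclusion hPY y) = Subgroup.inclusion hPY (a y) := fun y =>
          Subtype.ext ((hbx _).trans (hψa _ y.2))
        have hbst : b ∈ setStab Y P := by
          intro y
          constructor
          · intro hy
            have h1 := hba (a⁻¹ ⟨_, hy⟩)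
            rw [MulAut.apply_inv_self] at h1
            rw [← b.injective (h1.trans (Subtype.ext rfl) : b _ = b y)]
            exact (a⁻¹ ⟨_, hy⟩).2
          · intro hy
            rw [show y = Subgroup.inclusion hPY (⟨(y : Ω), hy⟩ : P) from rfl, hba]
            exact (a _).2
        exact ⟨⟨b, hbst⟩, hb, MulEquiv.ext fun y => Subtype.ext (congrArg Subtype.val (hba y) :)⟩
    have hxinv : (⟨x, hx⟩ : NV)⁻¹ ∈ M := hMt ▸ Subgroup.mem_top _
    obtain ⟨β, hβ, hβe⟩ := hxinv
    have hβh := (mem_autGroup_iff_hom hYS).1 (show (β : MulAut Y) ∈ F.autGroup Y from hβ)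
    set ψ₁ := (Y.subtype.comp (β : MulAut Y).toMonoidHom).comp (Subgroup.inclusion hXY) with hψ₁
    have hψ₁E : ψ₁ ∈ F.Hom X := restrict_mem hβh hXY
    set a : MulAut P := ((x⁻¹ : U) : MulAut P)
    have hagP : ∀ y : P, ψ₁ ⟨y, hPX y.2⟩ = ((a y : P) : Ω) := fun y =>
      (congrArg Subtype.val (DFunLike.congr_fun hβe y) :)
    have hX₁ : ψ₁.range ≤ W := by
      rintro _ ⟨z, rfl⟩
      exact hYW ((β : MulAut Y) _).2
    have hPX₁ : P ≤ ψ₁.range := fun y hy =>
      ⟨⟨(a⁻¹ ⟨y, hy⟩ : P), hPX (a⁻¹ ⟨y, hy⟩).2⟩, by rw [hagP, MulAut.apply_inv_self]⟩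
    obtain ⟨ψ₂, hψ₂, hψ₂W, hψ₂x⟩ := ih ψ₁.range hPX₁ hX₁ (by
      rintro _ ⟨z, rfl⟩
      obtain ⟨w, hw, hwe⟩ := hXA z z.2
      refine ⟨x⁻¹ * w * x, ⟨w, hw, rfl⟩, ?_⟩
      rw [← congr_conjAut_eq_of_extends (e := (a : P ≃* P)) hPX hagP z.2 (hW (hX z.2)).2,
        congr_eq_conj, ← hwe]
      show _ = a * (w : MulAut P) * a⁻¹
      simp only [a, Subgroup.coe_mul, Subgroup.coe_inv, inv_inv])
    refine ⟨ψ₂.comp (ψ₁.codRestrict ψ₁.range fun z => ⟨z, rfl⟩),
      F.comp_mem hψ₁E hψ₂ (fun z => ⟨z, rfl⟩), fun z => hψ₂W _, fun y => ?_⟩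
    show ψ₂ ⟨ψ₁ ⟨y, hPX y.2⟩, _⟩ = _
    refine (congrArg ψ₂ (Subtype.ext (hagP y) : _ = Subgroup.inclusion hPX₁ (a y))).trans
      ((hψ₂x (a y)).trans ?_)
    simp only [a, mul_inv_rev, Subgroup.coe_mul, MulAut.mul_apply]

end CfsgLib.Fusion.NormalProduct
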