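import Cfsg.Agent.Lib.Fusion.NormalProduct.Saturated
import Cfsg.Agent.Lib.Fusion.PPowerIndex.Residual

/-!
# The subsystem has `p`-power index in its product with `S`
-/

set_option autoImplicit false
set_option linter.unusedSectionVars false

namespace CfsgLib.Fusion.NormalProduct

open Cfsg Cfsg.FusionSystem CfsgLib.Fusion CfsgLib.Fusion.SatCriterion CfsgLib.Fusion.Balance
open CfsgLib.Fusion.Inter hiding Setup

variable {Ω : Type*} [Group Ω] {S T : Subgroup Ω} {F : Cfsg.FusionSystem S}
variable {E : Cfsg.FusionSystem T} {p : ℕ}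
variable {P Q R : Subgroup Ω}

/-- The automorphisms generated by those of order prime to `p` are generated by them. -/
theorem pResidual_le_of_coprime {G : Cfsg.FusionSystem S} {K : Subgroup (MulAut P)}
    (h : ∀ a ∈ G.autGroup P, (orderOf a).Coprime p → a ∈ K) :
    (pResidual p (G.autGroup P)).map (G.autGroup P).subtype ≤ K := by
  rw [CfsgLib.Transfer.map_subtype_pResidual, Subgroup.closure_le]
  exact fun a ha => h a ha.1 ha.2

variable [Finite S] [Fact p.Prime]

/-- An automorphism group is generated by its coprime elements and `Aut_S` at fully normalized subgroups. -/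
theorem autGroup_le_of_coprime {G : Cfsg.FusionSystem S} (hS : IsPGroup p S) (hG : G.IsSaturated p)
    (hP : G.IsFullyNormalized P) {K : Subgroup (MulAut P)}
    (h : ∀ a ∈ G.autGroup P, (orderOf a).Coprime p → a ∈ K) (hK : autInducedBy S P ≤ K) :
    G.autGroup P ≤ K := by
  have : Finite P := finite_of_le hP.1
  have : Finite (MulAut P) := finite_mulAut
  obtain ⟨-, R, hR⟩ := isFullyAutomized_of_isFullyNormalized hS hG hP
  intro α hα
  have htop := CfsgLib.Transfer.pResidual_sup_of_sylow R
  have hmem : (⟨α, hα⟩ : G.autGroup P) ∈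
      (↑(pResidual p (G.autGroup P) ⊔ (R : Subgroup (G.autGroup P))) : Set _) := by rw [htop]; trivial
  rw [Subgroup.normal_mul] at hmem
  obtain ⟨β, hβ, t, ht, heq⟩ := hmem
  have ht' : (t : MulAut P) ∈ autInducedBy S P := by
    have : t ∈ (R : Subgroup (G.autGroup P)) := ht
    rwa [hR] at this
  rw [show α = (β : MulAut P) * (t : MulAut P) from (congrArg Subtype.val heq).symm]
  exact mul_mem (pResidual_le_of_coprime h ⟨β, hβ, rfl⟩) (hK ht')

/-- The subsystem lies in the product. -/
theorem le_prodSys (hS : IsPGroup p S) (hF : F.IsSaturated p) (hE : E.IsNormalIn F p) :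
    E.IsSubsystemOf (prodSys F E p 0) := by
  have hinv := hE.1.2.2
  have hT : F.StronglyClosed T := hinv.2.1
  have : Finite T := finite_of_le hT.1
  have hTp : IsPGroup p T := hS.to_le hT.1
  intro U φ hφ
  refine (Descent.hom_le_of_aut_centric (E := PPowerIndex.restrictTo (prodSys F E p 0) T hT.1) hTp
    hE.1.1 (fun Q hQ hc _ => ?_) U hφ).1
  have hQT : Q ≤ T := hQ.1
  have hQS : Q ≤ S := hQT.trans hT.1
  have hB : Base F T Q := by
    unfold Base
    rw [inf_eq_left.2 hQT]
    exact Comp.isTC_of_isCentric hinv hc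
  have hto : ∀ a : MulAut Q, a ∈ (prodSys F E p 0).autGroup Q →
      a ∈ (PPowerIndex.restrictTo (prodSys F E p 0) T hT.1).autGroup Q := fun a ha =>
    (mem_autGroup_iff_hom hQT).2 ⟨(mem_autGroup_iff_hom hQS).1 ha, hQT, fun x => hQT (a x).2⟩
  refine autGroup_le_of_coprime hTp hE.1.1 hQ (fun a ha hco => hto a ?_) fun a ha =>
    hto a ((autInducedBy_mono hT.1 Q).trans (autInducedBy_le_autGroup _ hQS) ha)
  have haF : a ∈ F.autGroup Q := CfsgLib.FusionQuot.autGroup_le_of_subsystem hinv.1 Q ha
  have hst : a ∈ setStab Q (Q ⊓ T) := mem_setStab_inf hT hQS haF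
  refine tr_mem_prodSys hQS hB (tr_of_sideSub hS hF hE hQS hB (Balance.mem_sideSub.2 ⟨haF,
    fun x => T.mul_mem (T.inv_mem (hQT x.2)) (hQT (a x).2), resHom inf_le_left ⟨a, hst⟩, ?_,
    agree_resHom inf_le_left hst⟩) hco)
  exact (mem_autGroup_iff_hom inf_le_right).2 (mem_of_restrict ((mem_autGroup_iff_hom hQT).1 ha)
    inf_le_left _ fun x => congrArg Subtype.val (agree_resHom inf_le_left hst x).symm)

/-- The subsystem has `p`-power index in the product. -/
theorem hasPPowerIndexIn_prodSys (hS : IsPGroup p S) (hF : F.IsSaturated p)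
    (hE : E.IsNormalIn F p) : E.HasPPowerIndexIn (prodSys F E p 0) p := by
  have hinv := hE.1.2.2
  have hT : F.StronglyClosed T := hinv.2.1
  set G := prodSys F E p 0
  refine ⟨le_prodSys hS hF hE, (Subgroup.closure_le _).2 ?_, fun P hPT =>
    pResidual_le_of_coprime fun a ha hco => ?_⟩
  · rintro _ ⟨P, α, x, hP, hα, rfl⟩
    have : Finite P := finite_of_le hP
    have : Finite (MulAut P) := finite_mulAut
    have hgen : ∀ β : G.autGroup P, Nat.Coprime (orderOf β) p →
        ∀ y : P, (y : Ω)⁻¹ * ((β : MulAut P) y : P) ∈ T := fun β hβ =>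
      (Balance.mem_sideSub.1 (mem_sideSub_of_coprime hS hE hP β.2
        (by rwa [Subgroup.orderOf_coe]))).2.1
    have hclos : ∀ y : P, (y : Ω)⁻¹ * ((α : MulAut P) y : P) ∈ T := by
      induction hα using Subgroup.closure_induction'' with
      | one => intro y; simp [T.one_mem]
      | mem β hβ => exact hgen β hβ
      | inv_mem β hβ => exact hgen β⁻¹ (by rw [orderOf_inv]; exact hβ)
      | mul β γ _ _ hb hc =>
        intro y
        have h := T.mul_mem (hc y) (hb ((γ : MulAut P) y))
        simpa [mul_assoc] using h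
    exact hclos x
  · have hPS : P ≤ S := hPT.trans hT.1
    obtain ⟨-, -, γ, hγ, hag⟩ := Balance.mem_sideSub.1 (mem_sideSub_of_coprime hS hE hPS ha hco)
    refine (mem_autGroup_iff_hom hPT).2 (mem_of_restrict ((mem_autGroup_iff_hom inf_le_right).1 hγ)
      (le_inf le_rfl hPT) _ fun x => ?_)
    exact congrArg Subtype.val (hag (Subgroup.inclusion (le_inf le_rfl hPT) x))

end CfsgLib.Fusion.NormalProduct
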