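import Cfsg.Agent.Lib.Fusion.Balance.Hull

/-!
# Coprime automorphisms over a normal subsystem, away from centric subgroups

For `P` with `P ⊓ T` centric in `T`: coprime automorphisms trivial modulo `T` with restriction in
the normal subsystem extend, are `Tr`, and the group they generate with `Aut_T(P)` meets the
automorphisms fixing `P ⊓ T` in `Aut_T(P)`.
-/

set_option autoImplicit false
set_option linter.unusedSectionVars false

namespace CfsgLib.Fusion.NormalProduct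

open Cfsg Cfsg.FusionSystem CfsgLib.Fusion CfsgLib.Fusion.SatCriterion CfsgLib.Fusion.Balance
open CfsgLib.Fusion.Inter hiding Setup

variable {Ω : Type*} [Group Ω] {S T : Subgroup Ω} {F : Cfsg.FusionSystem S}
variable {E : Cfsg.FusionSystem T} {p : ℕ}
variable {P Q Y V : Subgroup Ω}

/-- The group generated by the `Tr` automorphisms. -/
def trGrp (F : Cfsg.FusionSystem S) (E : Cfsg.FusionSystem T) (p : ℕ) (P : Subgroup Ω) :
    Subgroup (MulAut P) :=
  Subgroup.closure {a | Tr F E p P a}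

/-- The group generated by the `Tr` automorphisms and `Aut_T(P)`. -/
def trT (F : Cfsg.FusionSystem S) (E : Cfsg.FusionSystem T) (p : ℕ) (P : Subgroup Ω) :
    Subgroup (MulAut P) :=
  trGrp F E p P ⊔ autInducedBy T P

theorem tr_mem_trGrp {a : MulAut P} (ha : Tr F E p P a) : a ∈ trGrp F E p P :=
  Subgroup.subset_closure ha

theorem trGrp_congr {e : P ≃* Q} (he : IsFIso F e) {a : MulAut P} (ha : a ∈ trGrp F E p P) :
    MulAut.congr e a ∈ trGrp F E p Q := by
  have hle : trGrp F E p P ≤ (trGrp F E p Q).comap (MulAut.congr e).toMonoidHom :=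
    (Subgroup.closure_le _).2 fun a ha => tr_mem_trGrp (tr_congr he ha)
  exact hle ha

theorem trGrp_conj (hPS : P ≤ S) {b a : MulAut P} (hb : b ∈ F.autGroup P)
    (ha : a ∈ trGrp F E p P) : b * a * b⁻¹ ∈ trGrp F E p P := by
  rw [← congr_eq_conj]
  exact trGrp_congr ((mem_autGroup_iff hPS).1 hb) ha

/-- `trT` is carried along maps extending to the normalizer. -/
theorem trT_congr (hT : F.StronglyClosed T) {e : P ≃* Q} (he : IsFIso F e) {X : Subgroup Ω}
    {ψ : X →* Ω} (hψ : ψ ∈ F.Hom X) (hPX : P ≤ X) (hNX : normalizerIn T P ≤ X)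
    (hψe : ∀ x : P, ψ ⟨x, hPX x.2⟩ = (e x : Ω)) {a : MulAut P} (ha : a ∈ trT F E p P) :
    MulAut.congr e a ∈ trT F E p Q := by
  have hle : trT F E p P ≤ (trT F E p Q).comap (MulAut.congr e).toMonoidHom := by
    refine sup_le (fun a ha => Subgroup.mem_sup_left (trGrp_congr he ha)) fun a ha => ?_
    obtain ⟨t, htN, ht, rfl⟩ := exists_eq_conjAut ha
    refine Subgroup.mem_sup_right ?_
    show MulAut.congr e (conjAut P t htN) ∈ autInducedBy T Q
    rw [congr_conjAut_eq_of_extends hPX hψe (hNX ⟨ht, htN⟩) htN]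
    exact conjAut_mem_autInducedBy (stronglyClosed_apply_mem hT hψ ⟨t, _⟩ ht) _
  exact hle ha

variable [Finite S] [Fact p.Prime]

theorem trT_le_sideSub (hE : E.IsNormalIn F p) (hPS : P ≤ S) : trT F E p P ≤ sideSub F E P := by
  have hinv := hE.1.2.2
  have hT : F.StronglyClosed T := hinv.2.1
  refine sup_le ((Subgroup.closure_le _).2 fun a ha => Tr.mem_sideSub hinv ha) fun a ha => ?_
  obtain ⟨t, htN, ht, rfl⟩ := exists_eq_conjAut ha
  have htV : t ∈ Subgroup.normalizer ((P ⊓ T : Subgroup Ω) : Set Ω) :=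
    Subgroup.mem_normalizer_iff.2 fun x => by
      simp only [Subgroup.mem_inf]
      exact and_congr (Subgroup.mem_normalizer_iff.1 htN x)
        (Subgroup.mem_normalizer_iff.1 (Subgroup.le_normalizer ht) x)
  refine Balance.mem_sideSub.2 ⟨autInducedBy_le_autGroup F hPS
    (conjAut_mem_autInducedBy (hT.1 ht) _), fun x => ?_, conjAut _ t htV,
    autInducedBy_le_autGroup E inf_le_right (conjAut_mem_autInducedBy ht _),
    agree_conjAut inf_le_left htN htV⟩
  show (x : Ω)⁻¹ * (t * x * t⁻¹) ∈ T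
  rw [← mul_assoc, ← mul_assoc]
  exact T.mul_mem ((Subgroup.mem_normalizer_iff''.1
    (stronglyClosed_le_normalizer hT (hPS x.2)) t).1 ht) (T.inv_mem ht)

theorem trT_le_autGroup (hE : E.IsNormalIn F p) (hPS : P ≤ S) : trT F E p P ≤ F.autGroup P :=
  fun _ ha => (Balance.mem_sideSub.1 (trT_le_sideSub hE hPS ha)).1

/-- The extension over `C_S(P ⊓ T)` at fully normalized subgroups. -/
theorem exists_lift_fn (hS : IsPGroup p S) (hF : F.IsSaturated p) (hE : E.IsNormalIn F p)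
    (hP : F.IsFullyNormalized P) (hV : F.IsFullyNormalized (P ⊓ T)) (hTC : IsTC F T (P ⊓ T))
    {c : MulAut P} (hc : c ∈ sideSub F E P) (hco : (orderOf c).Coprime p) (hPY : P ≤ Y)
    (hY : Y ≤ normalizerIn S P)
    (hact : ∀ y (hy : y ∈ Y), ∃ y', ∃ hy' : y' ∈ Y, y⁻¹ * y' ∈ T ∧
      c * conjAut P y (hY hy).2 * c⁻¹ = conjAut P y' (hY hy').2) :
    ∃ ν : MulAut ↥(Y ⊔ centralizerIn S (P ⊓ T)),
      IsGood F T (Y ⊔ centralizerIn S (P ⊓ T)) ∧
      ν ∈ sideSub F E (Y ⊔ centralizerIn S (P ⊓ T)) ∧ (orderOf ν).Coprime p ∧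
      Agree (hPY.trans le_sup_left) ν c := by
  have hinv := hE.1.2.2
  have hW : F.StronglyClosed T := hinv.2.1
  have h := setup_self hS hF hE
  have hPS : P ≤ S := hP.1
  set V := P ⊓ T with hVdef
  obtain ⟨hcF, hcd, γ, hγ, hcγ⟩ := Balance.mem_sideSub.1 hc
  have hVT : V ≤ T := inf_le_right
  have hVS : V ≤ S := hVT.trans hW.1
  have hYS : Y ≤ S := hY.trans (normalizerIn_le S P)
  have hVY : V ≤ Y := inf_le_left.trans hPY
  set Vc := V ⊔ centralizerIn S V with hVcdef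
  set U₂ := Y ⊔ centralizerIn S V with hU₂
  have hVcU : Vc ≤ U₂ := sup_le (hVY.trans le_sup_left) le_sup_right
  have hU₂S : U₂ ≤ S := sup_le hYS (centralizerIn_le S V)
  have hfc := isFullyCentralized_of_isFullyNormalized hS hF hV
  have hVcC : F.IsCentric Vc := isCentric_sup hS hF hfc
  have hVcS : Vc ≤ S := sup_centralizerIn_le hVS
  have : Finite Vc := finite_of_le hVcS
  have : Finite U₂ := finite_of_le hU₂S
  have : Finite P := finite_of_le hPS
  have : Finite (MulAut P) := finite_mulAut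
  have hWn := stronglyClosed_le_normalizer hW
  have hVn : ∀ g ∈ S, g ∈ Subgroup.normalizer (P : Set Ω) → g ∈ Subgroup.normalizer (V : Set Ω) :=
    fun g hgS hgR => Subgroup.mem_normalizer_iff.2 fun x => by
      simp only [hVdef, Subgroup.mem_inf]
      exact and_congr (Subgroup.mem_normalizer_iff.1 hgR x)
        (Subgroup.mem_normalizer_iff.1 (hWn hgS) x)
  have hYV : ∀ u ∈ Y, u ∈ Subgroup.normalizer (V : Set Ω) := fun u hu =>
    hVn u (hYS hu) (hY hu).2
  have hU₂N : U₂ ≤ normalizerIn S Vc := sup_le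
    (fun u hu => ⟨hYS hu, normalizer_sup_centralizerIn (hYS hu) (hYV u hu)⟩)
    (le_sup_right.trans (le_normalizerIn hVcS))
  have hU₂W : U₂ ≤ Subgroup.normalizer (T : Set Ω) := hU₂S.trans hWn
  obtain ⟨β, hβ, hβco, hagβ⟩ := Comp.exists_lift_of_normal hS hF hE h hTC hfc hγ
    (coprime_of_agree inf_le_left hcγ hco)
  have hβF : β ∈ F.autGroup Vc := (h.sideBoth_le hfc.1 hβ).1
  have key : ∀ u (hu : u ∈ Y), ∃ w ∈ T, w ∈ U₂ ∧ ∃ d ∈ centralizerIn S V,
      ∃ hn : w * d * u ∈ Subgroup.normalizer (Vc : Set Ω),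
        β * conjAut Vc u (hU₂N (Subgroup.mem_sup_left hu)).2 * β⁻¹ =
          conjAut Vc (w * d * u) hn := by
    intro u hu
    obtain ⟨u', hu', hT', heq⟩ := hact u hu
    have huN := hYV u hu
    have hu'N := hYV u' hu'
    have huW := (hU₂N (Subgroup.mem_sup_left hu)).2
    set w := u' * u⁻¹ with hwdef
    have hwT : w ∈ T := by
      have h1 := conj_mem_of_mem_normalizer (hWn (hYS hu)) hT'
      rwa [show u * (u⁻¹ * u') * u⁻¹ = w by rw [hwdef]; group] at h1
    have hwY : w ∈ Y := Y.mul_mem hu' (Y.inv_mem hu)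
    have hwN := hYV w hwY
    have hwW : w ∈ Subgroup.normalizer (Vc : Set Ω) :=
      normalizer_sup_centralizerIn (hYS hwY) hwN
    set cu := conjAut Vc u huW with hcu
    set e := β * cu * β⁻¹ * cu⁻¹ with he
    have hcuF : cu ∈ pairStab F Vc V := ⟨autInducedBy_le_autGroup F hVcS
      (conjAut_mem_autInducedBy (hYS hu) huW), fun x => (Subgroup.mem_normalizer_iff.1 huN x).symm⟩
    have he1 : e ∈ h.sideBoth hfc.1 := by
      rw [he, mul_assoc, mul_assoc]
      refine mul_mem hβ ?_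
      rw [← mul_assoc]
      exact h.sideBoth_conj (le_inf hVT hVT) hcuF ((h.sideBoth hfc.1).inv_mem hβ)
    have hγeq : γ * conjAut V u huN * γ⁻¹ = conjAut V u' hu'N := by
      have h1 : Agree (inf_le_left : V ≤ P) (c * conjAut P u (hY hu).2 * c⁻¹)
          (γ * conjAut V u huN * γ⁻¹) :=
        ((show Agree inf_le_left c γ from hcγ).mul (agree_conjAut _ (hY hu).2 huN)).mul
          (show Agree inf_le_left c γ from hcγ).inv
      rw [heq] at h1
      exact Agree.unique h1 (agree_conjAut _ (hY hu').2 hu'N)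
    have hage : Agree (le_sup_left : V ≤ Vc) e (conjAut V w hwN) := by
      have h1 := (((show Agree le_sup_left β γ from hagβ).mul
        (agree_conjAut le_sup_left huW huN)).mul (show Agree le_sup_left β γ from hagβ).inv).mul
        (agree_conjAut (le_sup_left : V ≤ Vc) huW huN).inv
      rw [hγeq, conjAut_inv huN, conjAut_mul] at h1
      exact h1
    set e' := (conjAut Vc w hwW)⁻¹ * e with he'
    have he'fix : e' ∈ cenFix F V := by
      refine ⟨mul_mem (inv_mem (autInducedBy_le_autGroup F hVcS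
        (conjAut_mem_autInducedBy (hYS hwY) hwW))) (h.sideBoth_le hfc.1 he1).1, fun x => ?_⟩
      have h2 := ((agree_conjAut le_sup_left hwW hwN).inv.mul hage) x
      rw [inv_mul_cancel] at h2
      exact h2
    have he's : e' ∈ h.sideBoth hfc.1 := mul_mem ((h.sideBoth hfc.1).inv_mem
      (h.conjAut_mem_sideBoth (le_inf hVT hVT) ⟨hwT, hwT⟩ hwN hwW)) he1
    obtain ⟨d, hdW, hdC, hde⟩ := exists_eq_conjAut (h.exists_conjAut_of_fix hfc
      (by rw [inf_idem]; exact hTC) he'fix he's)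
    refine ⟨w, hwT, Subgroup.mem_sup_left hwY, d, hdC, mul_mem (mul_mem hwW hdW) huW, ?_⟩
    rw [← conjAut_mul (mul_mem hwW hdW) huW, ← conjAut_mul hwW hdW, ← hde, he',
      mul_inv_cancel_left, he, hcu, inv_mul_cancel_right]
  obtain ⟨ν, hν, hνco, hνβ⟩ := exists_aut_sup hS hF hVcC hβF hβco hVcU hU₂N
    (act_of_sup (hU₂N.trans inf_le_right) (fun u hu => by
      obtain ⟨w, -, hwU, d, hdC, hn, he⟩ := key u hu
      rw [he]
      exact conjAut_mem_autInducedBy
        (U₂.mul_mem (U₂.mul_mem hwU (Subgroup.mem_sup_right hdC)) (Subgroup.mem_sup_left hu)) _)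
      fun g hg => by
        rw [conj_conjAut_self β ⟨g, Subgroup.mem_sup_right hg⟩ _ (Subgroup.le_normalizer (β _).2)]
        exact conjAut_mem_autInducedBy (hVcU (β _).2) _)
  -- displacement
  have hVcW : Vc ≤ Subgroup.normalizer (T : Set Ω) := hVcS.trans hWn
  have hβd : ∀ x : Vc, (x : Ω)⁻¹ * ((β x : Vc) : Ω) ∈ T := disp_of_gens hVcW
    (fun v => by
      rw [hagβ]
      exact T.mul_mem (T.inv_mem (hVT v.2)) (hVT (γ v).2))
    fun g => (h.sideBoth_disp hβ (c := Subgroup.inclusion le_sup_right g) g.2).1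
  have hLV : ∀ y : U₂, (y : Ω) ∈ Vc → (y : Ω)⁻¹ * ((ν y : U₂) : Ω) ∈ T := fun y hy => by
    rw [show ν y = Subgroup.inclusion hVcU (β ⟨y, hy⟩) from hνβ ⟨y, hy⟩]
    exact hβd ⟨y, hy⟩
  have hLW : ∀ y : U₂, (y : Ω) ∈ T → (y : Ω)⁻¹ * ((ν y : U₂) : Ω) ∈ T := fun y hy =>
    T.mul_mem (T.inv_mem hy) (Stability.aut_mem hW hU₂S hν hy)
  have hd : ∀ x : U₂, (x : Ω)⁻¹ * ((ν x : U₂) : Ω) ∈ T := by
    refine disp_of_gens hU₂W (fun u => ?_) fun g =>
      hLV (Subgroup.inclusion le_sup_right g) (Subgroup.mem_sup_right g.2)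
    set x : U₂ := Subgroup.inclusion le_sup_left u with hx
    obtain ⟨w, hw, hwU, d, hdC, hn, he⟩ := key u u.2
    obtain ⟨hνN, hνeq⟩ := conj_conjAut_of_agree hVcU hνβ (Subgroup.mem_sup_left u.2)
      (hU₂N (Subgroup.mem_sup_left u.2)).2
    rw [he] at hνeq
    have hwdu : w * d * u ∈ U₂ :=
      U₂.mul_mem (U₂.mul_mem hwU (Subgroup.mem_sup_right hdC)) (Subgroup.mem_sup_left u.2)
    have hz : (w * d * u)⁻¹ * ((ν x : U₂) : Ω) ∈ Vc := centralizerIn_le_of_isCentric hVcC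
      (inv_mul_mem_centralizerIn hU₂S hwdu (ν x).2 hνeq)
    have huU₂ : (u : Ω) ∈ U₂ := x.2
    have h1 : (u : Ω)⁻¹ * w * u ∈ T := (Subgroup.mem_normalizer_iff''.1 (hU₂W huU₂) w).1 hw
    have h2 : (u : Ω)⁻¹ * d * u ∈ centralizerIn S V :=
      (Subgroup.mem_normalizer_iff''.1 (mem_normalizer_centralizerIn (hYS u.2) (hYV u u.2)) d).1 hdC
    set L := dispSub hU₂W ν with hL
    have hxL : x⁻¹ * ν x ∈ L := by
      rw [show x⁻¹ * ν x =
        (⟨(u : Ω)⁻¹ * w * u, U₂.mul_mem (U₂.mul_mem (U₂.inv_mem huU₂) hwU) huU₂⟩ : U₂) *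
          ⟨(u : Ω)⁻¹ * d * u, Subgroup.mem_sup_right h2⟩ *
          ⟨(w * d * u)⁻¹ * ((ν x : U₂) : Ω), hVcU hz⟩ from Subtype.ext (by
            show (u : Ω)⁻¹ * ((ν x : U₂) : Ω) = _
            simp only [Subgroup.coe_mul]
            group)]
      exact L.mul_mem (L.mul_mem (hLW _ h1) (hLV _ (Subgroup.mem_sup_right h2))) (hLV _ hz)
    have : (T.subgroupOf U₂).Normal :=
      ⟨fun y hy g => conj_mem_of_mem_normalizer (hU₂W g.2) hy⟩
    exact CenNormal.disp_mem_of_disp (hS.to_le hU₂S) ν hνco (L := L) (N := T.subgroupOf U₂)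
      (fun y hy => Stability.aut_mem hW hU₂S hν hy) (fun y hy => hy) (x := x) hxL
  -- `P` is stabilized
  have hPU₂ : P ≤ U₂ := hPY.trans le_sup_left
  have hνV : ∀ v : V, ν (Subgroup.inclusion (inf_le_left.trans hPU₂) v) =
      Subgroup.inclusion (inf_le_left.trans hPU₂) (γ v) := fun v =>
    (hνβ (Subgroup.inclusion le_sup_left v)).trans (congrArg _ (hagβ v))
  have hmap : ∀ r : P, ((ν (Subgroup.inclusion hPU₂ r) : U₂) : Ω) ∈ P := by
    intro r
    set r₂ : U₂ := Subgroup.inclusion hPU₂ r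
    set z : Ω := ((c r : P) : Ω)⁻¹ * ((ν r₂ : U₂) : Ω) with hz
    have hzW : z ∈ T := by
      have h1 := T.mul_mem (T.inv_mem (hcd r)) (hd r₂)
      rwa [mul_inv_rev, inv_inv, show ((c r : P) : Ω)⁻¹ * (r : Ω) *
        ((r₂ : Ω)⁻¹ * ((ν r₂ : U₂) : Ω)) = z from mul_assoc _ _ _ |>.trans (by
          rw [hz, show (r₂ : Ω) = r from rfl, mul_inv_cancel_left])] at h1
    have hzC : z ∈ Subgroup.centralizer (V : Set Ω) := by
      refine Subgroup.mem_centralizer_iff.2 fun y hy => ?_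
      obtain ⟨v, hv⟩ := γ.surjective ⟨y, hy⟩
      have hrv : (r : Ω) * v * (r : Ω)⁻¹ ∈ V :=
        conj_mem_of_mem_normalizer (hVn r (hPS r.2) (Subgroup.le_normalizer r.2)) v.2
      have h1 := hνV ⟨_, hrv⟩
      have h2 := hcγ ⟨_, hrv⟩
      rw [show Subgroup.inclusion (inf_le_left.trans hPU₂) (⟨_, hrv⟩ : V) =
        r₂ * Subgroup.inclusion (inf_le_left.trans hPU₂) v * r₂⁻¹ from rfl, map_mul, map_mul, map_inv,
        hνV, hv] at h1
      rw [show Subgroup.inclusion (inf_le_left : V ≤ P) (⟨_, hrv⟩ : V) =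
        r * Subgroup.inclusion (inf_le_left : V ≤ P) v * r⁻¹ from rfl, map_mul, map_mul, map_inv,
        hcγ, hv] at h2
      have h3 : ((ν r₂ : U₂) : Ω) * y * ((ν r₂ : U₂) : Ω)⁻¹ =
          ((c r : P) : Ω) * y * ((c r : P) : Ω)⁻¹ :=
        (congrArg Subtype.val h1 :).trans (congrArg Subtype.val h2 :).symm
      calc y * z = ((c r : P) : Ω)⁻¹ * (((c r : P) : Ω) * y * ((c r : P) : Ω)⁻¹) *
            ((ν r₂ : U₂) : Ω) := by rw [hz]; group
        _ = z * y := by rw [← h3, hz]; group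
    have h1 := P.mul_mem (c r).2 (show z ∈ P from (hTC.self hW.1 ⟨hzW, hzC⟩).1)
    rwa [hz, mul_inv_cancel_left] at h1
  obtain ⟨b, hb, hνb⟩ := exists_res hPU₂ hU₂S hν hmap
  have hbd : ∀ x : P, (x : Ω)⁻¹ * ((b x : P) : Ω) ∈ T := fun x => by
    have h1 := hd (Subgroup.inclusion hPU₂ x)
    rwa [hνb] at h1
  have hbco : (orderOf b).Coprime p := Inter.coprime_of_agree hPU₂ hνb hνco
  have hab : b⁻¹ * c ∈ chainSub F T P := by
    refine mem_chainSub.2 ⟨mul_mem (inv_mem hb) hcF, fun x => ?_, fun x hx => b.injective ?_⟩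
    · have h1 := T.mul_mem (hcd x) (T.inv_mem (hbd ((b⁻¹ * c) x)))
      rwa [MulAut.mul_apply, MulAut.apply_inv_self, mul_inv_rev, inv_inv, mul_assoc,
        mul_inv_cancel_left] at h1
    · rw [MulAut.mul_apply, MulAut.apply_inv_self]
      refine Subgroup.inclusion_injective hPU₂ ?_
      rw [← hνb]
      exact (congrArg (Subgroup.inclusion hPU₂) (hcγ ⟨(x : Ω), x.2, hx⟩)).trans
        (hνV ⟨(x : Ω), x.2, hx⟩).symm
  have hbN : b ∈ Subgroup.normalizer (chainSub F T P : Set (MulAut P)) := by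
    refine Subgroup.mem_normalizer_iff.2 fun n => ⟨conj_mem_chainSub hW hPS hb, fun hn => ?_⟩
    have h1 := conj_mem_chainSub hW hPS (inv_mem hb) hn
    simpa [mul_assoc] using h1
  obtain ⟨m, hm, hmeq⟩ := exists_conj_of_coset (chainSub_isPGroup hS hPS) hbN hco hbco hab
  obtain ⟨g, hgN, hgS, rfl⟩ := exists_eq_conjAut (le_autInducedBy_of_normal hS hF hP
    (chainSub_isPGroup hS hPS) (fun δ hδ => hδ.1)
    (fun δ hδ δ' hδ' => conj_mem_chainSub hW hPS hδ hδ') hm)
  have hgC : g ∈ centralizerIn S V := by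
    refine ⟨hgS, Subgroup.mem_centralizer_iff.2 fun y hy => ?_⟩
    have h1 : g * y * g⁻¹ = y := congrArg Subtype.val ((mem_chainSub.1 hm).2.2 ⟨y, hy.1⟩ hy.2)
    calc y * g = g * y * g⁻¹ * g := by rw [h1]
      _ = g * y := by group
  have hgU : g ∈ U₂ := Subgroup.mem_sup_right hgC
  set cg := conjAut U₂ g (Subgroup.le_normalizer hgU) with hcg
  have hgood : IsGood F T U₂ := ⟨isCentric_mono hVcC hVcU hU₂S,
    hTC.mono (le_inf (inf_le_left.trans hPU₂) inf_le_right) inf_le_right⟩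
  -- restriction to the part in `T`
  have hνs : ν ∈ sideSub F E U₂ := by
    set V₂ := U₂ ⊓ T with hV₂
    have hst : ν ∈ setStab U₂ V₂ := fun x => by
      have hiff := mem_iff_of_iso ((mem_autGroup_iff hU₂S).1 hν) hW x
      exact ⟨fun hx => ⟨x.2, hiff.1 hx.2⟩, fun hx => ⟨(ν x).2, hiff.2 hx.2⟩⟩
    refine Balance.mem_sideSub.2 ⟨hν, hd, resHom inf_le_left ⟨ν, hst⟩, ?_,
      agree_resHom inf_le_left hst⟩
    have hVV₂ : V ≤ V₂ := le_inf (inf_le_left.trans hPU₂) inf_le_right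
    have hU₂V : U₂ ≤ Subgroup.normalizer (V : Set Ω) :=
      sup_le hYV fun g hg => (centralizerIn_le_normalizerIn S V hg).2
    exact coprime_mem_of_centric hS hE.1.1 hinv inf_le_right
      ⟨hVT, fun R hR => hTC.2 R (CfsgLib.FusionQuot.isConj_of_subsystem hinv.1 hR)⟩
      hVV₂ (inf_le_left.trans hU₂V)
      (resHom_mem_autGroup inf_le_left hU₂S ⟨ν, hst⟩ hν)
      (Inter.coprime_of_agree inf_le_left (agree_resHom inf_le_left hst) hνco) hγ fun v =>
        Subtype.ext (congrArg Subtype.val (hνV v) :)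
  refine ⟨cg * ν * cg⁻¹, hgood, conj_mem_sideSub hinv hU₂S
    (autInducedBy_le_autGroup F hU₂S (conjAut_mem_autInducedBy hgS _)) hνs, ?_, ?_⟩
  · rwa [show orderOf (cg * ν * cg⁻¹) = orderOf ν from (MulAut.conj cg).orderOf_eq ν]
  · rw [hmeq]
    exact ((agree_conjAut hPU₂ _ hgN).mul hνb).mul (agree_conjAut hPU₂ _ hgN).inv

theorem inf_conj_eq {e : P ≃* Q} (he : IsFIso F e) (hT : F.StronglyClosed T) :
    F.IsConj (P ⊓ T) (Q ⊓ T) := by
  set g := restrictIso e (inf_le_left : P ⊓ T ≤ P) (inf_le_left : Q ⊓ T ≤ Q) fun x =>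
    ⟨fun hx => ⟨x.2, (mem_iff_of_iso he hT x).1 hx.2⟩,
      fun hx => ⟨(e x).2, (mem_iff_of_iso he hT x).2 hx.2⟩⟩
  exact (he.restrict (inf_le_left : P ⊓ T ≤ P) g fun _ => rfl).isConj

/-- Extension of a coprime automorphism trivial modulo `T` to a group of elements normalizing `P`. -/
theorem exists_tr_ext (hS : IsPGroup p S) (hF : F.IsSaturated p) (hE : E.IsNormalIn F p)
    (hPS : P ≤ S) (hTC : IsTC F T (P ⊓ T)) {c : MulAut P} (hc : c ∈ sideSub F E P)
    (hco : (orderOf c).Coprime p) (hPY : P ≤ Y) (hY : Y ≤ normalizerIn S P)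
    (hact : ∀ y (hy : y ∈ Y), ∃ y', ∃ hy' : y' ∈ Y, y⁻¹ * y' ∈ T ∧
      c * conjAut P y (hY hy).2 * c⁻¹ = conjAut P y' (hY hy').2) :
    ∃ κ : MulAut Y, Tr F E p Y κ ∧ Agree hPY κ c := by
  have hinv := hE.1.2.2
  have hT : F.StronglyClosed T := hinv.2.1
  obtain ⟨P₀, e, he, hP₀, hV₀, ψ, hψ, hψN, hψe⟩ := exists_fullyNormalized_pair hS hF hT hPS
  set Y₀ := (ψ.comp (Subgroup.inclusion hY)).range with hY₀def
  obtain ⟨g, hg, hgx⟩ := exists_iso (Q := Y₀) (restrict_mem hψ hY) rfl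
  have hgψ : ∀ y (hy : y ∈ Y), (g ⟨y, hy⟩ : Ω) = ψ ⟨y, hY hy⟩ := fun y hy => hgx _
  have hge : ∀ x : P, (g (Subgroup.inclusion hPY x) : Ω) = e x := fun x =>
    (hgx _).trans (hψe x)
  have hP₀Y₀ : P₀ ≤ Y₀ := fun y hy => by
    have h1 := hge (e.symm ⟨y, hy⟩)
    rw [MulEquiv.apply_symm_apply] at h1
    exact (congrArg (· ∈ Y₀) h1).mp (g _).2
  have hY₀N : Y₀ ≤ normalizerIn S P₀ := by
    rintro _ ⟨x, rfl⟩
    exact hψN _
  have hV₀TC : IsTC F T (P₀ ⊓ T) := hTC.conj hT (inf_conj_eq he hT)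
  have hc₀ := congr_mem_sideSub hinv he hc
  have hco₀ : (orderOf (MulAut.congr e c)).Coprime p := by rwa [orderOf_congr]
  have hact₀ : ∀ y (hy : y ∈ Y₀), ∃ y', ∃ hy' : y' ∈ Y₀, y⁻¹ * y' ∈ T ∧
      MulAut.congr e c * conjAut P₀ y (hY₀N hy).2 * (MulAut.congr e c)⁻¹ =
        conjAut P₀ y' (hY₀N hy').2 := by
    intro y hy
    obtain ⟨⟨z, hz⟩, hzy⟩ := g.surjective ⟨y, hy⟩
    have hy' : y = ψ ⟨z, hY hz⟩ := (congrArg Subtype.val hzy).symm.trans (hgψ z hz)
    obtain ⟨z', hz', hzT, heq⟩ := hact z hz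
    refine ⟨(g ⟨z', hz'⟩ : Ω), (g _).2, ?_, ?_⟩
    · have h1 := (mem_iff_of_iso hg hT ((⟨z, hz⟩ : Y)⁻¹ * ⟨z', hz'⟩)).2 hzT
      rw [map_mul, map_inv, Subgroup.coe_mul, Subgroup.coe_inv, hzy] at h1
      exact h1
    · have h1 := congrArg (MulAut.congr e) heq
      rw [map_mul, map_mul, map_inv, congr_conjAut_eq_of_extends (le_normalizerIn hPS) hψe (hY hz)
        (hY hz).2, congr_conjAut_eq_of_extends (le_normalizerIn hPS) hψe (hY hz') (hY hz').2] at h1
      simp only [hy', hgψ z' hz']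
      exact h1
  obtain ⟨ν, hgood, hν, hνco, hνc⟩ := exists_lift_fn hS hF hE hP₀ hV₀ hV₀TC hc₀ hco₀ hP₀Y₀ hY₀N hact₀
  have hνF := (Balance.mem_sideSub.1 hν).1
  have hst : ∀ y : Y₀, ((ν (Subgroup.inclusion le_sup_left y) : ↥(Y₀ ⊔ centralizerIn S (P₀ ⊓ T))) : Ω) ∈ Y₀ := by
    intro y
    obtain ⟨y', hy', hyT, heq⟩ := hact₀ y y.2
    obtain ⟨hN, hNeq⟩ := conj_conjAut_of_agree (hP₀Y₀.trans le_sup_left) hνc
      (Subgroup.mem_sup_left (T := centralizerIn S (P₀ ⊓ T)) y.2) (hY₀N y.2).2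
    rw [heq] at hNeq
    have h1 : y'⁻¹ * ((ν (Subgroup.inclusion le_sup_left y) : ↥(Y₀ ⊔ centralizerIn S (P₀ ⊓ T))) : Ω) ∈ centralizerIn S P₀ :=
      inv_mul_mem_centralizerIn (U := S) le_rfl (hY₀N hy').1 (hgood.centric.1 (ν _).2) hNeq
    have h2 : y'⁻¹ * ((ν (Subgroup.inclusion le_sup_left y) : ↥(Y₀ ⊔ centralizerIn S (P₀ ⊓ T))) : Ω) ∈ T := by
      have h3 := T.mul_mem (T.inv_mem hyT)
        ((Balance.mem_sideSub.1 hν).2.1 (Subgroup.inclusion le_sup_left y))
      rwa [mul_inv_rev, inv_inv, Subgroup.coe_inclusion, mul_assoc, mul_inv_cancel_left] at h3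
    have h4 := Y₀.mul_mem hy' (hP₀Y₀ (inf_le_left (b := T) (hV₀TC.self hT.1
      ⟨h2, Subgroup.centralizer_le (SetLike.coe_subset_coe.2 inf_le_left) h1.2⟩)))
    rwa [mul_inv_cancel_left] at h4
  obtain ⟨κ₀, hκ₀, hνκ₀⟩ := exists_res (le_sup_left : Y₀ ≤ Y₀ ⊔ centralizerIn S (P₀ ⊓ T)) hgood.centric.1 hνF hst
  have hTr : Tr F E p Y₀ κ₀ := tr_restrict le_sup_left hνκ₀ (tr_of_good hgood hν hνco)
  refine ⟨MulAut.congr g.symm κ₀, tr_congr hg.symm hTr, ?_⟩
  have h1 : Agree hP₀Y₀ κ₀ (MulAut.congr e c) := agree_of_agree hνκ₀ hνc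
  have h2 := agree_congr h1 e.symm g.symm hPY fun x => by
    obtain ⟨z, rfl⟩ := e.surjective x
    have : Subgroup.inclusion hP₀Y₀ (e z) = g (Subgroup.inclusion hPY z) := Subtype.ext (hge z).symm
    rw [this, MulEquiv.symm_apply_apply, MulEquiv.symm_apply_apply]
    rfl
  rwa [congr_symm_congr] at h2

/-- Coprime automorphisms trivial modulo `T` with restriction in the subsystem are `Tr`. -/
theorem tr_of_sideSub (hS : IsPGroup p S) (hF : F.IsSaturated p) (hE : E.IsNormalIn F p)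
    (hPS : P ≤ S) (hTC : IsTC F T (P ⊓ T)) {c : MulAut P} (hc : c ∈ sideSub F E P)
    (hco : (orderOf c).Coprime p) : Tr F E p P c := by
  obtain ⟨κ, hκ, hag⟩ := exists_tr_ext hS hF hE hPS hTC hc hco le_rfl (le_normalizerIn hPS)
    fun y hy => ⟨_, (c ⟨y, hy⟩).2, (Balance.mem_sideSub.1 hc).2.1 ⟨y, hy⟩,
      conj_conjAut_self c ⟨y, hy⟩ _ _⟩
  exact tr_restrict le_rfl hag hκ

/-- Elements of `trT` fixing `P ⊓ T` are induced by `T`. -/
theorem mem_autInducedBy_of_fix (hS : IsPGroup p S) (hF : F.IsSaturated p) (hE : E.IsNormalIn F p)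
    (hPS : P ≤ S) (hTC : IsTC F T (P ⊓ T)) {a : MulAut P} (ha : a ∈ trT F E p P)
    (hfix : ∀ x : P, (x : Ω) ∈ T → a x = x) : a ∈ autInducedBy T P := by
  classical
  have hinv := hE.1.2.2
  have hT : F.StronglyClosed T := hinv.2.1
  have h := setup_self hS hF hE
  obtain ⟨P₀, e, he, hP₀, hV₀, ψ, hψ, hψN, hψe⟩ := exists_fullyNormalized_pair hS hF hT hPS
  have ha₀ : MulAut.congr e a ∈ trT F E p P₀ :=
    trT_congr hT he hψ (le_normalizerIn hPS) (inf_le_inf_right _ hT.1) hψe ha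
  have hfix₀ : ∀ x : P₀, (x : Ω) ∈ T → MulAut.congr e a x = x := by
    intro x hx
    obtain ⟨z, rfl⟩ := e.surjective x
    rw [congr_apply, MulEquiv.symm_apply_apply, hfix z ((mem_iff_of_iso he hT z).1 hx)]
  have hV₀TC : IsTC F T (P₀ ⊓ T) := hTC.conj hT (inf_conj_eq he hT)
  set V := P₀ ⊓ T with hVdef
  set U₂ := P₀ ⊔ centralizerIn S V with hU₂
  have hP₀S : P₀ ≤ S := hP₀.1
  have hVS : V ≤ S := inf_le_left.trans hP₀S
  have hU₂S : U₂ ≤ S := sup_le hP₀S (centralizerIn_le S V)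
  have hfc := isFullyCentralized_of_isFullyNormalized hS hF hV₀
  set Vc := V ⊔ centralizerIn S V with hVc
  have hVcU : Vc ≤ U₂ := sup_le (inf_le_left.trans le_sup_left) le_sup_right
  have hVcC : F.IsCentric Vc := isCentric_sup hS hF hfc
  have : Finite U₂ := finite_of_le hU₂S
  have : Finite Vc := finite_of_le hVcC.1
  let L : Subgroup (MulAut P₀) :=
    { carrier := {b | ∃ b' ∈ Jgen F E p U₂, Agree le_sup_left b' b}
      one_mem' := ⟨1, one_mem _, fun _ => rfl⟩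
      mul_mem' := by
        rintro b c ⟨b', hb', hbb⟩ ⟨c', hc', hcc⟩
        exact ⟨b' * c', mul_mem hb' hc', hbb.mul hcc⟩
      inv_mem' := by
        rintro b ⟨b', hb', hbb⟩
        exact ⟨b'⁻¹, inv_mem hb', hbb.inv⟩ }
  have hL : trT F E p P₀ ≤ L := by
    refine sup_le ((Subgroup.closure_le _).2 fun c hc => ?_) fun c hc => ?_
    · obtain ⟨ν, hgood, hν, hνco, hνc⟩ := exists_lift_fn hS hF hE hP₀ hV₀ hV₀TC
        (Tr.mem_sideSub hinv hc) hc.1 le_rfl (le_normalizerIn hP₀S) fun y hy =>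
          ⟨_, (c ⟨y, hy⟩).2, Tr.disp hT hc ⟨y, hy⟩, conj_conjAut_self c ⟨y, hy⟩ _ _⟩
      exact ⟨ν, tr_mem_jgen (tr_of_good hgood hν hνco), hνc⟩
    · obtain ⟨t, htN, ht, rfl⟩ := exists_eq_conjAut hc
      have htV : t ∈ Subgroup.normalizer (V : Set Ω) := Subgroup.mem_normalizer_iff.2 fun x => by
        simp only [hVdef, Subgroup.mem_inf]
        exact and_congr (Subgroup.mem_normalizer_iff.1 htN x)
          (Subgroup.mem_normalizer_iff.1 (Subgroup.le_normalizer ht) x)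
      have htU : t ∈ Subgroup.normalizer (U₂ : Set Ω) :=
        normalizer_sup_of_mem htN (mem_normalizer_centralizerIn (hT.1 ht) htV)
      exact ⟨conjAut U₂ t htU, autInducedBy_le_jgen hU₂S (conjAut_mem_autInducedBy ht htU),
        agree_conjAut le_sup_left htU htN⟩
  obtain ⟨b, hb, hba⟩ := hL ha₀
  have hbF := jgen_le_autGroup hT hb
  have hbd : ∀ x : U₂, (x : Ω)⁻¹ * ((b x : U₂) : Ω) ∈ T := by
    have h1 : Jgen F E p U₂ ≤ sideSub F E U₂ := by
      refine (Subgroup.closure_le _).2 fun c hc => ?_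
      rcases hc with hc | hc
      · obtain ⟨R, g, hg, w, hw, hwN, heq⟩ := hc
        have h2 : conjAut R w hwN ∈ trT F E p R :=
          Subgroup.mem_sup_right (conjAut_mem_autInducedBy hw hwN)
        have h3 := congr_mem_sideSub hinv hg.symm (trT_le_sideSub hE hg.le_right h2)
        rw [← heq, congr_symm_congr] at h3
        exact h3
      · exact Tr.mem_sideSub hinv hc
    exact (Balance.mem_sideSub.1 (h1 hb)).2.1
  have hbV : ∀ x : V, b (Subgroup.inclusion (inf_le_left.trans le_sup_left) x) =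
      Subgroup.inclusion (inf_le_left.trans le_sup_left) x := fun x =>
    (hba (Subgroup.inclusion inf_le_left x)).trans
      (congrArg (Subgroup.inclusion le_sup_left) (hfix₀ (Subgroup.inclusion inf_le_left x) x.2.2))
  have hbC : ∀ g : centralizerIn S V, ((b (Subgroup.inclusion le_sup_right g) : U₂) : Ω) ∈
      centralizerIn S V := by
    intro g
    refine ⟨hU₂S (b _).2, Subgroup.mem_centralizer_iff.2 fun v hv => ?_⟩
    have h1 : Subgroup.inclusion (inf_le_left.trans le_sup_left) (⟨v, hv⟩ : V) *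
        Subgroup.inclusion (le_sup_right : centralizerIn S V ≤ U₂) g =
        Subgroup.inclusion le_sup_right g *
          Subgroup.inclusion (inf_le_left.trans le_sup_left) (⟨v, hv⟩ : V) :=
      Subtype.ext (Subgroup.mem_centralizer_iff.1 g.2.2 v hv)
    have h2 := congrArg b h1
    rw [map_mul, map_mul, hbV] at h2
    exact congrArg Subtype.val h2
  have hbVc : ∀ x : Vc, ((b (Subgroup.inclusion hVcU x) : U₂) : Ω) ∈ Vc := by
    have hle : Vc ≤ ((Vc.subgroupOf U₂).comap b.toMonoidHom).map U₂.subtype :=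
      sup_le (fun v hv => ⟨⟨v, Subgroup.mem_sup_left hv.1⟩, by
          show ((b (Subgroup.inclusion (inf_le_left.trans le_sup_left) (⟨v, hv⟩ : V)) : U₂) : Ω) ∈ Vc
          rw [hbV]
          exact Subgroup.mem_sup_left hv, rfl⟩)
        fun g hg => ⟨⟨g, Subgroup.mem_sup_right hg⟩, Subgroup.mem_sup_right (hbC ⟨g, hg⟩), rfl⟩
    intro x
    obtain ⟨y, hy, hyx⟩ := hle x.2
    exact (Subtype.ext hyx : y = Subgroup.inclusion hVcU x) ▸ hy
  obtain ⟨b', hb', hbb'⟩ := exists_res hVcU hU₂S hbF hbVc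
  have hb'V : ∀ x : V, b' (Subgroup.inclusion le_sup_left x) = Subgroup.inclusion le_sup_left x :=
    fun x => Subgroup.inclusion_injective hVcU ((hbb' _).symm.trans (hbV x))
  have hside : b' ∈ sideAut F E hT.1 hfc.1 := by
    refine mem_sideAut.2 ⟨hb', fun x => ?_, fun g hg => ?_, 1, one_mem _, fun v => ?_⟩
    · constructor
      · intro hx
        have h1 : b' x = Subgroup.inclusion le_sup_left (⟨_, hx⟩ : V) := Subtype.ext rfl
        rw [← hb'V] at h1
        exact (b'.injective h1) ▸ hx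
      · intro hx
        rw [show x = Subgroup.inclusion le_sup_left (⟨_, hx⟩ : V) from Subtype.ext rfl, hb'V]
        exact hx
    · have h1 := hbd (Subgroup.inclusion hVcU g)
      rw [hbb'] at h1
      exact h1
    · have hv : (v : Ω) ∈ V := sup_le le_rfl (hV₀TC.self hT.1) v.2
      exact hb'V ⟨_, hv⟩
  obtain ⟨d, hdN, hdC, hde⟩ := exists_eq_conjAut (h.exists_conjAut_of_fix hfc
    (by rw [inf_idem]; exact hV₀TC) ⟨hb', hb'V⟩ ⟨hside, hside⟩)
  have hdU : d ∈ U₂ := Subgroup.mem_sup_right hdC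
  set cd := conjAut U₂ d (Subgroup.le_normalizer hdU) with hcd
  have hcdF : cd ∈ F.autGroup U₂ :=
    autInducedBy_le_autGroup F hU₂S (conjAut_mem_autInducedBy hdC.1 _)
  obtain ⟨z, hzV, hzC, hzx⟩ := eq_comp_conj_of_eq_on_centric hS hF hVcC hVcU
    ((mem_autGroup_iff_hom hU₂S).1 hcdF) ((mem_autGroup_iff_hom hU₂S).1 hbF) fun x hx => by
      show ((cd x : U₂) : Ω) = (b x : U₂)
      rw [show b x = Subgroup.inclusion hVcU (b' ⟨x, hx⟩) from hbb' ⟨x, hx⟩, hde]
      rfl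
  have hsU : d * (z : Ω) ∈ U₂ := U₂.mul_mem hdU z.2
  have hbeq : b = conjAut U₂ (d * (z : Ω)) (Subgroup.le_normalizer hsU) :=
    MulEquiv.ext fun y => Subtype.ext ((hzx y).trans (by
      show d * ((z : Ω) * y * (z : Ω)⁻¹) * d⁻¹ = d * (z : Ω) * y * (d * (z : Ω))⁻¹
      group))
  obtain ⟨w, hwU, hwC, hwT⟩ := (hull_main hS hF hE U₂ (isCentric_mono hVcC hVcU hU₂S)).1
    (d * (z : Ω)) (hU₂S hsU) _ (hbeq ▸ hb)
  -- back to `P`
  set t : Ω := d * z * w with htdef
  have hat : ∀ x : P₀, ((MulAut.congr e a x : P₀) : Ω) = t * x * t⁻¹ := fun x => by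
    refine (congrArg Subtype.val (hba x)).symm.trans ?_
    rw [hbeq, conjAut_apply, Subgroup.coe_inclusion, htdef]
    have h1 := Subgroup.mem_centralizer_iff.1 hwC x (Subgroup.mem_sup_left x.2)
    calc d * (z : Ω) * x * (d * (z : Ω))⁻¹
        = d * z * ((x : Ω) * w) * w⁻¹ * (d * (z : Ω))⁻¹ := by group
      _ = _ := by rw [h1]; group
  have htV : t ∈ V := hV₀TC.self hT.1 ⟨hwT, Subgroup.mem_centralizer_iff.2 fun v hv => by
    have h1 := hat ⟨v, hv.1⟩
    rw [hfix₀ ⟨v, hv.1⟩ hv.2] at h1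
    change v = t * v * t⁻¹ at h1
    calc v * t = t * v * t⁻¹ * t := by rw [← h1]
      _ = t * v := by group⟩
  set t₀ : P := e.symm ⟨t, htV.1⟩ with ht₀
  have ht₀T : (t₀ : Ω) ∈ T := by
    refine (mem_iff_of_iso he hT t₀).1 ?_
    rw [ht₀, MulEquiv.apply_symm_apply]
    exact htV.2
  refine mem_autInducedBy_iff.2 ⟨t₀, ht₀T, fun x => ?_⟩
  have h1 : e (a x) = ⟨t, htV.1⟩ * e x * ⟨t, htV.1⟩⁻¹ := by
    refine Subtype.ext ?_
    have := hat (e x)
    rw [congr_apply, MulEquiv.symm_apply_apply] at this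
    exact this
  have h2 : a x = t₀ * x * t₀⁻¹ := e.injective (by
    rw [h1, map_mul, map_mul, map_inv, ht₀, MulEquiv.apply_symm_apply])
  exact congrArg Subtype.val h2

/-- `Aut_S(V)` meets `Aut_E(V)` in `Aut_T(V)` when `V` is fully normalized in `E`. -/
theorem mem_autInducedBy_of_fn (hS : IsPGroup p S) (hE : E.IsNormalIn F p) {V : Subgroup Ω}
    (hV : E.IsFullyNormalized V) {b : MulAut V} (hb : b ∈ E.autGroup V)
    (hbS : b ∈ autInducedBy S V) : b ∈ autInducedBy T V := by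
  have hT : F.StronglyClosed T := hE.1.2.2.2.1
  have : Finite T := finite_of_le hT.1
  have : Finite V := finite_of_le hV.1
  have : Finite (MulAut V) := finite_mulAut
  obtain ⟨-, P₁, hP₁⟩ := isFullyAutomized_of_isFullyNormalized (hS.to_le hT.1) hE.1.1 hV
  have hp : IsPGroup p ((autInducedBy S V).subgroupOf (E.autGroup V)) :=
    (isPGroup_autInducedBy hS V).comap_of_injective _ (Subgroup.subtype_injective _)
  have heq := P₁.is_maximal' hp (by
    rw [hP₁]
    exact fun x hx => autInducedBy_mono hT.1 V hx)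
  have hm : (⟨b, hb⟩ : E.autGroup V) ∈ (autInducedBy S V).subgroupOf (E.autGroup V) := hbS
  rw [heq, hP₁] at hm
  exact hm

/-- Elements of `trT` acting on `P ⊓ T` as an element of `S` are induced by `T`. -/
theorem mem_autInducedBy_of_res (hS : IsPGroup p S) (hF : F.IsSaturated p) (hE : E.IsNormalIn F p)
    (hPS : P ≤ S) (hTC : IsTC F T (P ⊓ T)) (hV : E.IsFullyNormalized (P ⊓ T)) {a : MulAut P}
    (ha : a ∈ trT F E p P) {γ : MulAut ↥(P ⊓ T)} (hag : Agree inf_le_left a γ)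
    (hγS : γ ∈ autInducedBy S (P ⊓ T)) : a ∈ autInducedBy T P := by
  have hinv := hE.1.2.2
  have hT : F.StronglyClosed T := hinv.2.1
  obtain ⟨-, had, γ', hγ', hag'⟩ := Balance.mem_sideSub.1 (trT_le_sideSub hE hPS ha)
  obtain rfl : γ = γ' := Agree.unique hag hag'
  obtain ⟨t, htV, ht, hte⟩ := exists_eq_conjAut (mem_autInducedBy_of_fn hS hE hV hγ' hγS)
  have hTn : ∀ x : P, (x : Ω) ∈ Subgroup.normalizer (T : Set Ω) := fun x =>
    stronglyClosed_le_normalizer hT (hPS x.2)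
  have hPV : ∀ x : P, (x : Ω) ∈ Subgroup.normalizer ((P ⊓ T : Subgroup Ω) : Set Ω) := fun x =>
    Subgroup.mem_normalizer_iff.2 fun v => by
      simp only [Subgroup.mem_inf]
      exact and_congr (Subgroup.mem_normalizer_iff.1 (Subgroup.le_normalizer x.2) v)
        (Subgroup.mem_normalizer_iff.1 (hTn x) v)
  -- the commutators with `t` stay in `P`
  have hcomm : ∀ x : P, t * (x : Ω) * t⁻¹ ∈ P := by
    intro x
    have hmT : ((a x : P) : Ω)⁻¹ * (t * x * t⁻¹) ∈ T := by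
      have h1 : (x : Ω)⁻¹ * (t * x * t⁻¹) ∈ T := by
        rw [← mul_assoc, ← mul_assoc]
        exact T.mul_mem ((Subgroup.mem_normalizer_iff''.1 (hTn x) t).1 ht) (T.inv_mem ht)
      have h2 := T.mul_mem (T.inv_mem (had x)) h1
      rwa [mul_inv_rev, inv_inv, mul_assoc, mul_inv_cancel_left] at h2
    have hmC : ((a x : P) : Ω)⁻¹ * (t * x * t⁻¹) ∈
        Subgroup.centralizer ((P ⊓ T : Subgroup Ω) : Set Ω) := by
      refine Subgroup.mem_centralizer_iff.2 fun v hv => ?_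
      obtain ⟨u, hu⟩ := γ.surjective ⟨v, hv⟩
      have hxu := conj_mem_of_mem_normalizer (hPV x) u.2
      have h1 := congrArg Subtype.val (hag ⟨_, hxu⟩)
      rw [show Subgroup.inclusion (inf_le_left : P ⊓ T ≤ P) (⟨_, hxu⟩ : ↥(P ⊓ T)) =
        x * Subgroup.inclusion inf_le_left u * x⁻¹ from rfl, map_mul, map_mul, map_inv, hag, hu,
        hte] at h1
      have h2 : (γ u : Ω) = t * u * t⁻¹ := by rw [hte]; rfl
      rw [hu] at h2
      change ((a x : P) : Ω) * v * ((a x : P) : Ω)⁻¹ = t * ((x : Ω) * u * (x : Ω)⁻¹) * t⁻¹ at h1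
      change v = t * u * t⁻¹ at h2
      calc v * (((a x : P) : Ω)⁻¹ * (t * x * t⁻¹))
          = ((a x : P) : Ω)⁻¹ * (((a x : P) : Ω) * v * ((a x : P) : Ω)⁻¹) * (t * x * t⁻¹) := by group
        _ = ((a x : P) : Ω)⁻¹ * (t * x * t⁻¹) * (t * u * t⁻¹) := by rw [h1]; group
        _ = _ := by rw [← h2]
    have h3 := P.mul_mem (a x).2 (inf_le_left (b := T) (hTC.self hT.1 ⟨hmT, hmC⟩))
    rwa [mul_inv_cancel_left] at h3
  have : Finite P := finite_of_le hPS
  have htN : t ∈ Subgroup.normalizer (P : Set Ω) := by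
    set f : P → P := fun x => ⟨t * x * t⁻¹, hcomm x⟩
    have hsurj : Function.Surjective f := Finite.injective_iff_surjective.1 fun x y hxy =>
      Subtype.ext (mul_left_cancel (mul_right_cancel (Subtype.ext_iff.1 hxy :)))
    refine Subgroup.mem_normalizer_iff.2 fun x => ⟨fun hx => hcomm ⟨x, hx⟩, fun hx => ?_⟩
    obtain ⟨y, hy⟩ := hsurj ⟨_, hx⟩
    have : (y : Ω) = x := mul_left_cancel (mul_right_cancel (Subtype.ext_iff.1 hy :))
    exact this ▸ y.2
  have htP : conjAut P t htN ∈ trT F E p P :=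
    Subgroup.mem_sup_right (conjAut_mem_autInducedBy ht _)
  have h1 := mem_autInducedBy_of_fix hS hF hE hPS hTC (mul_mem (inv_mem htP) ha) fun x hx => by
    have hx' := hag ⟨(x : Ω), x.2, hx⟩
    rw [MulAut.mul_apply, show a x = Subgroup.inclusion inf_le_left (γ ⟨(x : Ω), x.2, hx⟩) from hx']
    refine (conjAut P t htN).injective ?_
    rw [MulAut.apply_inv_self, hte]
    exact Subtype.ext rfl
  have h2 := mul_mem (conjAut_mem_autInducedBy (P := P) ht htN) h1
  rwa [mul_inv_cancel_left] at h2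

end CfsgLib.Fusion.NormalProduct
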