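import Cfsg.Agent.Lib.Fusion.NormalProduct.Lift

/-!
# The system generated by a normal subsystem and `S`

The maps generated by the conjugations and the `Tr` automorphisms at subgroups meeting `T` in a
centric subgroup, and their shape: after a conjugation they are trivial modulo `T` with restriction
in the subsystem.
-/

set_option autoImplicit false
set_option linter.unusedSectionVars false

namespace CfsgLib.Fusion.NormalProduct

open Cfsg Cfsg.FusionSystem CfsgLib.Fusion CfsgLib.Fusion.SatCriterion CfsgLib.Fusion.Balance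
open CfsgLib.Fusion.Inter hiding Setup

variable {Ω : Type*} [Group Ω] {S T : Subgroup Ω} {F : Cfsg.FusionSystem S}
variable {E : Cfsg.FusionSystem T} {p : ℕ}
variable {P Q X Y : Subgroup Ω}

/-- `P` meets `T` in a `T`-centric subgroup. -/
def Base (F : Cfsg.FusionSystem S) (T P : Subgroup Ω) : Prop := IsTC F T (P ⊓ T)

theorem Base.mono [Finite S] (h : Base F T P) (hPQ : P ≤ Q) : Base F T Q :=
  IsTC.mono h (inf_le_inf_right T hPQ) inf_le_right

theorem Base.of_iso [Finite S] (hT : F.StronglyClosed T) {e : P ≃* Q} (he : IsFIso F e) (h : Base F T P) :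
    Base F T Q := IsTC.conj h hT (inf_conj_eq he hT)

/-- `G` contains the `Tr` automorphisms above `n`. -/
def IsGen (F : Cfsg.FusionSystem S) (E : Cfsg.FusionSystem T) (p n : ℕ) (G : Cfsg.FusionSystem S) :
    Prop :=
  ∀ Y : Subgroup Ω, Y ≤ S → Base F T Y → n < Nat.card Y → ∀ a, Tr F E p Y a → a ∈ G.autGroup Y

/-- The system generated by the `Tr` automorphisms above `n`. -/
def prodSys (F : Cfsg.FusionSystem S) (E : Cfsg.FusionSystem T) (p n : ℕ) :
    Cfsg.FusionSystem S where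
  Hom P := {φ | φ ∈ F.Hom P ∧ ∀ G : Cfsg.FusionSystem S, IsGen F E p n G → φ ∈ G.Hom P}
  le_of_mem hφ := F.le_of_mem hφ.1
  injective_of_mem hφ := F.injective_of_mem hφ.1
  conj_mem hP hg := ⟨F.conj_mem hP hg, fun G _ => G.conj_mem hP hg⟩
  comp_mem hφ hψ hQ := ⟨F.comp_mem hφ.1 hψ.1 hQ,
    fun G hG => G.comp_mem (hφ.2 G hG) (hψ.2 G hG) hQ⟩
  inv_mem := by
    intro P φ hφ
    obtain ⟨ψ, hψ, hx⟩ := F.inv_mem hφ.1
    refine ⟨ψ, ⟨hψ, fun G hG => ?_⟩, hx⟩
    obtain ⟨ψ', hψ', hx'⟩ := G.inv_mem (hφ.2 G hG)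
    have : ψ = ψ' := MonoidHom.ext fun ⟨_, x, rfl⟩ => (hx x).trans (hx' x).symm
    exact this ▸ hψ'

theorem prodSys_sub (n : ℕ) : (prodSys F E p n).IsSubsystemOf F := fun _ _ hφ => hφ.1

theorem isGen_prodSys (n : ℕ) : IsGen F E p n (prodSys F E p n) := fun _ hYS hY hn _ ha =>
  (mem_autGroup_iff_hom hYS).2 ⟨(mem_autGroup_iff_hom hYS).1 ha.mem_autGroup,
    fun _ hG => (mem_autGroup_iff_hom hYS).1 (hG _ hYS hY hn _ ha)⟩

theorem prodSys_le {n : ℕ} {G : Cfsg.FusionSystem S} (hG : IsGen F E p n G) (P : Subgroup Ω) :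
    (prodSys F E p n).Hom P ⊆ G.Hom P := fun _ hφ => hφ.2 G hG

theorem prodSys_le_zero (n : ℕ) (P : Subgroup Ω) :
    (prodSys F E p n).Hom P ⊆ (prodSys F E p 0).Hom P :=
  prodSys_le (fun _ hYS hY hn => isGen_prodSys 0 _ hYS hY (lt_of_le_of_lt (Nat.zero_le n) hn)) P

theorem tr_mem_prodSys [Finite S] (hPS : P ≤ S) (hP : Base F T P) {a : MulAut P}
    (ha : Tr F E p P a) : a ∈ (prodSys F E p 0).autGroup P := by
  have : Finite P := finite_of_le hPS
  exact isGen_prodSys 0 P hPS hP Nat.card_pos a ha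

theorem trGrp_le_prodSys [Finite S] (hPS : P ≤ S) (hP : Base F T P) :
    trGrp F E p P ≤ (prodSys F E p 0).autGroup P :=
  (Subgroup.closure_le _).2 fun _ ha => tr_mem_prodSys hPS hP ha

/-- Each map on a base subgroup of order `n` is a map above `n` after an element of `trGrp`. -/
theorem prodSys_decomp [Finite S] (hT : F.StronglyClosed T) (n : ℕ) {X : Subgroup Ω} {φ : X →* Ω}
    (hφ : φ ∈ (prodSys F E p 0).Hom X) :
    (∀ (P : Subgroup Ω) (hPX : P ≤ X), Base F T P → Nat.card P = n →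
      ∃ a ∈ trGrp F E p P, ∃ g ∈ (prodSys F E p n).Hom P,
        ∀ x, φ (Subgroup.inclusion hPX x) = g (a x)) ∧
    (n < Nat.card X → φ ∈ (prodSys F E p n).Hom X) := by
  let G : Cfsg.FusionSystem S :=
    { Hom := fun X => {φ | φ ∈ (prodSys F E p 0).Hom X ∧
        (∀ (P : Subgroup Ω) (hPX : P ≤ X), Base F T P → Nat.card P = n →
          ∃ a ∈ trGrp F E p P, ∃ g ∈ (prodSys F E p n).Hom P,
            ∀ x, φ (Subgroup.inclusion hPX x) = g (a x)) ∧
        (n < Nat.card X → φ ∈ (prodSys F E p n).Hom X)}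
      le_of_mem := fun hψ => (prodSys F E p 0).le_of_mem hψ.1
      injective_of_mem := fun hψ => (prodSys F E p 0).injective_of_mem hψ.1
      conj_mem := by
        intro X g hX hg
        exact ⟨(prodSys F E p 0).conj_mem hX hg, fun P hPX _ _ => ⟨1, one_mem _, conjHom P g,
          (prodSys F E p n).conj_mem (hPX.trans hX) hg, fun x => rfl⟩,
          fun _ => (prodSys F E p n).conj_mem hX hg⟩
      comp_mem := by
        intro X Y φ ψ hφ hψ hXY
        refine ⟨(prodSys F E p 0).comp_mem hφ.1 hψ.1 hXY, fun P hPX hP hn => ?_, fun hlt => ?_⟩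
        · obtain ⟨a, ha, g, hg, hgx⟩ := hφ.2.1 P hPX hP hn
          obtain ⟨f, hf, hfx⟩ := exists_iso hg rfl
          have hRY : g.range ≤ Y := by
            rintro _ ⟨x, rfl⟩
            have := hgx (a⁻¹ x)
            rw [MulAut.apply_inv_self] at this
            rw [← this]
            exact hXY _
          have hfF : IsFIso F f := prodSys_sub n _ hf
          obtain ⟨a', ha', g', hg', hgx'⟩ := hψ.2.1 g.range hRY (hP.of_iso hT hfF)
            ((isConj_card_eq hfF.isConj).symm.trans hn)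
          refine ⟨MulAut.congr f.symm a' * a, mul_mem (trGrp_congr hfF.symm ha') ha, _,
            (prodSys F E p n).comp_mem hg hg' fun x => ⟨x, rfl⟩, fun x => ?_⟩
          show ψ ⟨φ (Subgroup.inclusion hPX x), hXY _⟩ = g' ⟨g ((MulAut.congr f.symm a' * a) x), _⟩
          have h1 : (⟨φ (Subgroup.inclusion hPX x), hXY _⟩ : Y) =
              Subgroup.inclusion hRY (f (a x)) := Subtype.ext ((hgx x).trans (hfx _).symm)
          rw [h1, hgx']
          refine congrArg g' (Subtype.ext ?_)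
          exact (congrArg Subtype.val (show a' (f (a x)) = f ((MulAut.congr f.symm a' * a) x) by
            rw [MulAut.mul_apply, congr_apply, MulEquiv.symm_symm, MulEquiv.apply_symm_apply])).trans
            (hfx _)
        · have : Finite Y := finite_of_le ((prodSys F E p 0).le_of_mem hψ.1).1
          refine (prodSys F E p n).comp_mem (hφ.2.2 hlt) (hψ.2.2 (hlt.trans_le ?_)) hXY
          exact Nat.card_le_card_of_injective (fun x => (⟨φ x, hXY x⟩ : Y))
            fun x y hxy => hom_inj hφ.1 (Subtype.ext_iff.1 hxy)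
      inv_mem := by
        intro X φ hφ
        obtain ⟨χ, hχ, hχx⟩ := (prodSys F E p 0).inv_mem hφ.1
        refine ⟨χ, ⟨hχ, fun P' hP'X hP' hn => ?_, fun hlt => ?_⟩, hχx⟩
        · obtain ⟨e, he, hex⟩ := exists_iso hφ.1 rfl
          set P := (P'.subgroupOf φ.range).map (X.subtype.comp e.symm.toMonoidHom)
          have hPX : P ≤ X := by
            rintro _ ⟨y, -, rfl⟩
            exact (e.symm y).2
          have hmem : ∀ x : X, (e x : Ω) ∈ P' ↔ (x : Ω) ∈ P := by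
            intro x
            constructor
            · intro hx
              refine ⟨e x, hx, ?_⟩
              show ((e.symm (e x) : X) : Ω) = x
              rw [MulEquiv.symm_apply_apply]
            · rintro ⟨y, hy, hyx⟩
              rw [← show e.symm y = x from Subtype.ext hyx, MulEquiv.apply_symm_apply]
              exact hy
          set f := restrictIso e hPX hP'X hmem with hfdef
          have hfF : IsFIso F f :=
            (show IsFIso F e from prodSys_sub 0 _ he).restrict hPX f fun _ => rfl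
          obtain ⟨a, ha, g, hg, hgx⟩ := hφ.2.1 P hPX (hP'.of_iso hT hfF.symm)
            ((isConj_card_eq hfF.isConj).trans hn)
          have hfg : ∀ x : P, (f x : Ω) = g (a x) := fun x => (hex _).trans (hgx x)
          set f' : P ≃* P' := (a⁻¹ : MulAut P).trans f
          have hf' : IsFIso (prodSys F E p n) f' := by
            show P'.subtype.comp f'.toMonoidHom ∈ (prodSys F E p n).Hom P
            rwa [show P'.subtype.comp f'.toMonoidHom = g from MonoidHom.ext fun y => by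
              show ((f ((a⁻¹ : MulAut P) y) : P') : Ω) = g y
              rw [hfg, MulAut.apply_inv_self]]
          refine ⟨MulAut.congr f' a⁻¹,
            trGrp_congr (prodSys_sub n _ hf') ((trGrp F E p P).inv_mem ha),
            P.subtype.comp f'.symm.toMonoidHom, hf'.symm, fun y => ?_⟩
          obtain ⟨z, rfl⟩ := f.surjective y
          have h1 : f'.symm (MulAut.congr f' a⁻¹ (f z)) = z := by
            rw [congr_apply, MulEquiv.symm_apply_apply, show f'.symm (f z) = a z from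
              f'.injective (by simp [f']), MulAut.inv_apply_self]
          show χ (Subgroup.inclusion hP'X (f z)) = (f'.symm (MulAut.congr f' a⁻¹ (f z)) : Ω)
          rw [h1]
          exact (congrArg χ (show Subgroup.inclusion hP'X (f z) =
            ⟨φ (Subgroup.inclusion hPX z), ⟨_, rfl⟩⟩ from Subtype.ext (hex _))).trans (hχx _)
        · have hc : Nat.card φ.range = Nat.card X :=
            (Nat.card_congr (MonoidHom.ofInjective (hom_inj hφ.1)).toEquiv).symm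
          obtain ⟨χ', hχ', hχ'x⟩ := (prodSys F E p n).inv_mem (hφ.2.2 (hc ▸ hlt))
          have : χ = χ' := MonoidHom.ext fun ⟨_, x, rfl⟩ => (hχx x).trans (hχ'x x).symm
          exact this ▸ hχ' }
  have hG : IsGen F E p 0 G := by
    intro Y hYS hY hY0 a ha
    have hamem := (mem_autGroup_iff_hom hYS).1 (isGen_prodSys 0 Y hYS hY hY0 a ha)
    refine (mem_autGroup_iff_hom hYS).2 ⟨hamem, fun P hPY hP hn => ?_, fun hlt => ?_⟩
    · have : Finite Y := finite_of_le hYS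
      by_cases hYn : n < Nat.card Y
      · exact ⟨1, one_mem _, _, restrict_mem ((mem_autGroup_iff_hom hYS).1
          (isGen_prodSys n Y hYS hY hYn a ha)) hPY, fun x => rfl⟩
      · obtain rfl : P = Y := Subgroup.eq_of_le_of_card_ge hPY (by omega)
        exact ⟨a, tr_mem_trGrp ha, P.subtype, subtype_mem _ hYS, fun x => rfl⟩
    · exact (mem_autGroup_iff_hom hYS).1 (isGen_prodSys n Y hYS hY hlt a ha)
  exact (prodSys_le hG X hφ).2

/-! ### The shape of the maps -/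

/-- After conjugation by `s⁻¹`, `φ` is trivial modulo `T` and restricts into `E`. -/
def Lam (E : Cfsg.FusionSystem T) {P : Subgroup Ω} (φ : P →* Ω) (s : Ω) : Prop :=
  (∀ x : P, (x : Ω)⁻¹ * (s⁻¹ * φ x * s) ∈ T) ∧
    (MulAut.conj s⁻¹).toMonoidHom.comp (φ.comp (Subgroup.inclusion inf_le_left)) ∈ E.Hom (P ⊓ T)

theorem conj_hom_mem [Finite S] (hinv : E.IsInvariantIn F) {A : Subgroup Ω} {ρ : A →* Ω}
    (hρ : ρ ∈ E.Hom A) {s : Ω} (hs : s ∈ S) :
    ∃ (A' : Subgroup Ω) (h : ∀ x : A, s * (x : Ω) * s⁻¹ ∈ A'), ∃ χ ∈ E.Hom A',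
      ∀ x : A, χ ⟨s * (x : Ω) * s⁻¹, h x⟩ = s * ρ x * s⁻¹ := by
  have hT := hinv.2.1
  have hsT : s ∈ Subgroup.normalizer (T : Set Ω) := stronglyClosed_le_normalizer hT hs
  obtain ⟨χ, hχ, hχx⟩ := stronglyInvariant_conj (stronglyInvariant_of_isInvariantIn hinv) hT.1 hρ
    (α := conjAut T s hsT) (autInducedBy_le_autGroup F hT.1 (conjAut_mem_autInducedBy hs hsT))
  exact ⟨(A.subgroupOf T).map (T.subtype.comp (conjAut T s hsT).toMonoidHom),
    fun x => ⟨⟨x, dom_le hρ x.2⟩, x.2, rfl⟩, χ, hχ, fun x => hχx x _⟩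

theorem lam_conj_T {t : Ω} (ht : t ∈ T) (hP : P ≤ Subgroup.normalizer (T : Set Ω)) :
    Lam E (conjHom P t) 1 := by
  refine ⟨fun x => ?_, ?_⟩
  · show (x : Ω)⁻¹ * (1⁻¹ * (t * x * t⁻¹) * 1) ∈ T
    rw [inv_one, one_mul, mul_one, ← mul_assoc, ← mul_assoc]
    exact T.mul_mem ((Subgroup.mem_normalizer_iff''.1 (hP x.2) t).1 ht) (T.inv_mem ht)
  · refine mem_of_eq_conj inf_le_right ht _ fun x => ?_
    show (1 : Ω)⁻¹ * (t * (x : Ω) * t⁻¹) * (1⁻¹)⁻¹ = _
    group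

theorem lam_conj {s : Ω} : Lam E (conjHom P s) s := by
  refine ⟨fun x => ?_, ?_⟩
  · show (x : Ω)⁻¹ * (s⁻¹ * (s * x * s⁻¹) * s) ∈ T
    rw [show (x : Ω)⁻¹ * (s⁻¹ * (s * x * s⁻¹) * s) = 1 by group]
    exact one_mem T
  · rw [show (MulAut.conj s⁻¹).toMonoidHom.comp ((conjHom P s).comp (Subgroup.inclusion inf_le_left))
      = (P ⊓ T).subtype from MonoidHom.ext fun x => by
        show s⁻¹ * (s * (x : Ω) * s⁻¹) * s⁻¹⁻¹ = x
        group]
    exact subtype_mem E inf_le_right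

theorem lam_comp [Finite S] (hinv : E.IsInvariantIn F) {φ : P →* Ω} {ψ : Q →* Ω}
    (hφ : φ ∈ F.Hom P) {s t : Ω} (hs : s ∈ S) (h : Lam E φ s) (h' : Lam E ψ t)
    (hQ : ∀ x : P, φ x ∈ Q) : Lam E (ψ.comp (φ.codRestrict Q hQ)) (t * s) := by
  have hT := hinv.2.1
  refine ⟨fun x => ?_, ?_⟩
  · show (x : Ω)⁻¹ * ((t * s)⁻¹ * ψ ⟨φ x, hQ x⟩ * (t * s)) ∈ T
    have h1 := h'.1 ⟨φ x, hQ x⟩
    have h2 := (Subgroup.mem_normalizer_iff''.1 (stronglyClosed_le_normalizer hT hs) _).1 h1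
    have h3 := T.mul_mem (h.1 x) h2
    rwa [show (x : Ω)⁻¹ * (s⁻¹ * φ x * s) *
        (s⁻¹ * ((φ x)⁻¹ * (t⁻¹ * ψ ⟨φ x, hQ x⟩ * t)) * s) =
      (x : Ω)⁻¹ * ((t * s)⁻¹ * ψ ⟨φ x, hQ x⟩ * (t * s)) by group] at h3
  · obtain ⟨A', hA', χ, hχ, hχx⟩ := conj_hom_mem hinv h'.2 (S.inv_mem hs)
    have hmem : ∀ x : ↥(P ⊓ T), φ (Subgroup.inclusion inf_le_left x) ∈ Q ⊓ T := fun x =>
      ⟨hQ _, stronglyClosed_apply_mem hT hφ _ x.2.2⟩
    refine mem_of_comp h.2 hχ (fun x => ?_) _ fun x => ?_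
    · show s⁻¹ * φ (Subgroup.inclusion inf_le_left x) * s⁻¹⁻¹ ∈ A'
      exact hA' ⟨_, hmem x⟩
    · refine Eq.trans ?_ (hχx ⟨_, hmem x⟩).symm
      show (t * s)⁻¹ * ψ ⟨φ (Subgroup.inclusion inf_le_left x), hQ _⟩ * (t * s)⁻¹⁻¹ =
        s⁻¹ * (t⁻¹ * ψ ⟨φ (Subgroup.inclusion inf_le_left x), _⟩ * t⁻¹⁻¹) * s⁻¹⁻¹
      group

theorem lam_inv [Finite S] (hinv : E.IsInvariantIn F) {φ : P →* Ω} {ψ : φ.range →* Ω}
    (hφ : φ ∈ F.Hom P) (hψ : ∀ x : P, ψ ⟨φ x, ⟨x, rfl⟩⟩ = (x : Ω)) {s : Ω} (hs : s ∈ S)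
    (h : Lam E φ s) : Lam E ψ s⁻¹ := by
  have hT := hinv.2.1
  refine ⟨?_, ?_⟩
  · rintro ⟨_, x, rfl⟩
    show (φ x)⁻¹ * (s⁻¹⁻¹ * ψ ⟨φ x, _⟩ * s⁻¹) ∈ T
    rw [hψ]
    have h1 := conj_mem_of_mem_normalizer (stronglyClosed_le_normalizer hT hs) (T.inv_mem (h.1 x))
    rwa [show s * ((x : Ω)⁻¹ * (s⁻¹ * φ x * s))⁻¹ * s⁻¹ = (φ x)⁻¹ * (s⁻¹⁻¹ * x * s⁻¹) by group] at h1
  · obtain ⟨η, hη, hηx⟩ := E.inv_mem h.2
    obtain ⟨A', hA', χ, hχ, hχx⟩ := conj_hom_mem hinv hη hs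
    have hpre : ∀ y : ↥(φ.range ⊓ T), ∃ x : ↥(P ⊓ T), φ (Subgroup.inclusion inf_le_left x) = y := by
      rintro ⟨_, ⟨x, rfl⟩, hxT⟩
      obtain ⟨e, he, hex⟩ := exists_iso hφ rfl
      exact ⟨⟨x, x.2, (mem_iff_of_iso he hT x).1 (by rw [hex]; exact hxT)⟩, rfl⟩
    have hle : φ.range ⊓ T ≤ A' := fun y hy => by
      obtain ⟨x, hx⟩ := hpre ⟨y, hy⟩
      have h1 := hA' ⟨_, ⟨x, rfl⟩⟩
      change s * (s⁻¹ * φ (Subgroup.inclusion inf_le_left x) * s⁻¹⁻¹) * s⁻¹ ∈ A' at h1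
      rw [hx] at h1
      rwa [show s * (s⁻¹ * y * s⁻¹⁻¹) * s⁻¹ = y by group] at h1
    refine mem_of_restrict hχ hle _ fun y => ?_
    obtain ⟨x, hx⟩ := hpre y
    refine Eq.trans ?_ ((hχx ⟨_, ⟨x, rfl⟩⟩).symm.trans (congrArg χ (Subtype.ext ?_)))
    · rw [hηx]
      show s⁻¹⁻¹ * ψ ⟨(y : Ω), _⟩ * s⁻¹⁻¹⁻¹ = s * (x : Ω) * s⁻¹
      rw [show (⟨(y : Ω), y.2.1⟩ : φ.range) = ⟨φ (Subgroup.inclusion inf_le_left x), _, rfl⟩ from
        Subtype.ext hx.symm, hψ, Subgroup.coe_inclusion, inv_inv]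
    · show s * (s⁻¹ * φ (Subgroup.inclusion inf_le_left x) * s⁻¹⁻¹) * s⁻¹ = (y : Ω)
      rw [hx]
      group

/-- The maps of `G` inside `W` with shape given by an element of `W`. -/
def lamSub [Finite S] (hinv : E.IsInvariantIn F) {G : Cfsg.FusionSystem S} (hG : G.IsSubsystemOf F)
    {W : Subgroup Ω} (hW : W ≤ S) : Cfsg.FusionSystem W where
  Hom P := {φ | φ ∈ G.Hom P ∧ P ≤ W ∧ (∀ x, φ x ∈ W) ∧ ∃ s ∈ W, Lam E φ s}
  le_of_mem hφ := ⟨hφ.2.1, hφ.2.2.1⟩
  injective_of_mem hφ := G.injective_of_mem hφ.1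
  conj_mem hP hg := ⟨G.conj_mem (hP.trans hW) (hW hg), hP,
    fun x => W.mul_mem (W.mul_mem hg (hP x.2)) (W.inv_mem hg), _, hg, lam_conj⟩
  comp_mem := by
    rintro P Q φ ψ ⟨hφ, hP, -, s, hs, h⟩ ⟨hψ, -, hv, t, ht, h'⟩ hQ
    exact ⟨G.comp_mem hφ hψ hQ, hP, fun x => hv _, t * s, W.mul_mem ht hs,
      lam_comp hinv (hG _ hφ) (hW hs) h h' hQ⟩
  inv_mem := by
    rintro P φ ⟨hφ, hP, hv, s, hs, h⟩
    obtain ⟨ψ, hψ, hx⟩ := G.inv_mem hφ
    refine ⟨ψ, ⟨hψ, ?_, ?_, s⁻¹, W.inv_mem hs, lam_inv hinv (hG _ hφ) hx (hW hs) h⟩, hx⟩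
    · rintro _ ⟨x, rfl⟩
      exact hv x
    · rintro ⟨_, x, rfl⟩
      rw [hx]
      exact hP x.2

theorem lam_one_of_sideSub {a : MulAut P} (ha : a ∈ sideSub F E P) :
    Lam E (P.subtype.comp a.toMonoidHom) 1 := by
  obtain ⟨-, hd, γ, hγ, hag⟩ := Balance.mem_sideSub.1 ha
  refine ⟨fun x => ?_, ?_⟩
  · show (x : Ω)⁻¹ * (1⁻¹ * ((a x : P) : Ω) * 1) ∈ T
    rw [inv_one, one_mul, mul_one]
    exact hd x
  · rw [show (MulAut.conj (1 : Ω)⁻¹).toMonoidHom.comp
        ((P.subtype.comp a.toMonoidHom).comp (Subgroup.inclusion inf_le_left)) =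
        (P ⊓ T).subtype.comp γ.toMonoidHom from MonoidHom.ext fun x => by
      show (1 : Ω)⁻¹ * ((a (Subgroup.inclusion inf_le_left x) : P) : Ω) * (1 : Ω)⁻¹⁻¹ = (γ x : Ω)
      rw [hag]
      simp]
    exact (mem_autGroup_iff_hom inf_le_right).1 hγ

/-- Every map of the generated system has a shape. -/
theorem exists_lam [Finite S] [Fact p.Prime] (hE : E.IsNormalIn F p) {φ : P →* Ω}
    (hφ : φ ∈ (prodSys F E p 0).Hom P) : ∃ s ∈ S, Lam E φ s := by
  have hinv := hE.1.2.2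
  have hF : F.IsSubsystemOf F := fun _ => subset_rfl
  refine (prodSys_le (G := lamSub hinv hF (le_refl S)) (fun Y hYS _ _ a ha => ?_) P hφ).2.2.2
  exact (mem_autGroup_iff_hom hYS).2 ⟨(mem_autGroup_iff_hom hYS).1 ha.mem_autGroup, hYS,
    fun x => hYS (a x).2, 1, one_mem S, lam_one_of_sideSub (Tr.mem_sideSub hinv ha)⟩

/-- Coprime automorphisms of the generated system lie in the side group. -/
theorem mem_sideSub_of_coprime [Finite S] [Fact p.Prime] (hS : IsPGroup p S)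
    (hE : E.IsNormalIn F p) (hPS : P ≤ S) {α : MulAut P} (hα : α ∈ (prodSys F E p 0).autGroup P)
    (hco : (orderOf α).Coprime p) : α ∈ sideSub F E P := by
  have hinv := hE.1.2.2
  have hT := hinv.2.1
  have : Finite P := finite_of_le hPS
  have : Finite (MulAut P) := finite_mulAut
  have hαh := (mem_autGroup_iff_hom hPS).1 hα
  have hαF : ∀ j : ℕ, P.subtype.comp (α ^ j : MulAut P).toMonoidHom ∈ F.Hom P := fun j =>
    (mem_autGroup_iff_hom hPS).1 (pow_mem ((mem_autGroup_iff_hom hPS).2 (prodSys_sub 0 _ hαh)) j)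
  obtain ⟨s, hs, hL⟩ := exists_lam hE hαh
  have hpow : ∀ j : ℕ, Lam E (P.subtype.comp (α ^ j : MulAut P).toMonoidHom) (s ^ j) := by
    intro j
    induction j with
    | zero =>
      rw [pow_zero, pow_zero]
      exact lam_one_of_sideSub (one_mem (sideSub F E P))
    | succ j ih =>
      have h1 := lam_comp hinv (hαF j) (S.pow_mem hs j) ih hL fun x => ((α ^ j) x).2
      rw [← pow_succ'] at h1
      rwa [show P.subtype.comp (α ^ (j + 1) : MulAut P).toMonoidHom =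
        (P.subtype.comp α.toMonoidHom).comp
          ((P.subtype.comp (α ^ j : MulAut P).toMonoidHom).codRestrict P fun x => ((α ^ j) x).2) from
          MonoidHom.ext fun x => by rw [pow_succ']; rfl]
  obtain ⟨m, hm⟩ := IsPGroup.iff_card.1 hS
  obtain ⟨k, hk₁, hk₀⟩ := Nat.chineseRemainder (hco.pow_right m) 1 0
  have hαk : α ^ k = α := (pow_eq_pow_iff_modEq.2 hk₁).trans (pow_one α)
  have hsk : s ^ k = 1 := by
    refine orderOf_dvd_iff_pow_eq_one.1 (dvd_trans ?_ (Nat.modEq_zero_iff_dvd.1 hk₀))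
    rw [← hm]
    exact Subgroup.orderOf_dvd_natCard S hs
  have h1 := hpow k
  rw [hαk, hsk] at h1
  have hst : α ∈ setStab P (P ⊓ T) := fun x => by
    have hiff := mem_iff_of_iso ((mem_autGroup_iff hPS).1 ((mem_autGroup_iff_hom hPS).2
      (prodSys_sub 0 _ hαh))) hT x
    exact ⟨fun hx => ⟨x.2, hiff.1 hx.2⟩, fun hx => ⟨(α x).2, hiff.2 hx.2⟩⟩
  refine Balance.mem_sideSub.2 ⟨(mem_autGroup_iff_hom hPS).2 (prodSys_sub 0 _ hαh), fun x => ?_,
    resHom inf_le_left ⟨α, hst⟩, ?_, agree_resHom inf_le_left hst⟩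
  · have h2 := h1.1 x
    rwa [inv_one, one_mul, mul_one] at h2
  · refine (mem_autGroup_iff_hom inf_le_right).2 (mem_of_restrict h1.2 le_rfl _ fun x => ?_)
    show _ = (1 : Ω)⁻¹ * ((α (Subgroup.inclusion inf_le_left x) : P) : Ω) * (1 : Ω)⁻¹⁻¹
    rw [agree_resHom inf_le_left hst]
    simp

end CfsgLib.Fusion.NormalProduct
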