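import Cfsg.Agent.Lib.Fusion.NormalProduct.Generic
import Cfsg.Agent.Lib.Fusion.NormalProduct.System

/-!
# Moving the part in `T` to a fully normalized subgroup

The automorphisms of the subsystem at a fully normalized subgroup extend to maps of the generated
system trivial modulo `T`, and such maps move every `T`-centric subgroup onto a fully normalized one
together with a group normalizing it.
-/

set_option autoImplicit false
set_option linter.unusedSectionVars false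

namespace CfsgLib.Fusion.NormalProduct

open Cfsg Cfsg.FusionSystem CfsgLib.Fusion CfsgLib.Fusion.SatCriterion CfsgLib.Fusion.Balance
open CfsgLib.Fusion.Inter hiding Setup

variable {Ω : Type*} [Group Ω] {S T : Subgroup Ω} {F : Cfsg.FusionSystem S}
variable {E : Cfsg.FusionSystem T} {p : ℕ}
variable {P Q X Y N V W : Subgroup Ω}

/-! ### Groups -/

theorem coprime_mem_of_sup {G : Type*} [Group G] [Finite G] [Fact p.Prime] {A M : Subgroup G}
    (hM : IsPGroup p M) (hMA : M ≤ Subgroup.normalizer (A : Set G)) {u : G} (hu : u ∈ A ⊔ M)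
    (hco : (orderOf u).Coprime p) : u ∈ A := by
  have : (A.subgroupOf (A ⊔ M)).Normal :=
    (Subgroup.normal_subgroupOf_iff_le_normalizer le_sup_left).2 (sup_le Subgroup.le_normalizer hMA)
  set f := QuotientGroup.mk' (A.subgroupOf (A ⊔ M))
  have hu' : u ∈ (↑(A ⊔ M) : Set G) := hu
  rw [Subgroup.coe_mul_of_right_le_normalizer_left A M hMA] at hu'
  obtain ⟨a, ha, m, hm, heq⟩ := hu'
  set U : ↥(A ⊔ M) := ⟨u, hu⟩
  set m' : ↥(A ⊔ M) := ⟨m, Subgroup.mem_sup_right hm⟩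
  have hfu : f U = f m' := by
    have h1 : U = ⟨a, Subgroup.mem_sup_left ha⟩ * m' := Subtype.ext heq.symm
    have h2 : f ⟨a, Subgroup.mem_sup_left ha⟩ = 1 :=
      (QuotientGroup.eq_one_iff _).2 (Subgroup.mem_subgroupOf.2 ha)
    rw [h1, map_mul, h2, one_mul]
  obtain ⟨k, hk⟩ := hM ⟨m, hm⟩
  have h1 : orderOf (f U) ∣ p ^ k := by
    rw [hfu]
    refine orderOf_dvd_of_pow_eq_one ?_
    rw [← map_pow, show m' ^ p ^ k = 1 from Subtype.ext (congrArg Subtype.val hk :), map_one]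
  have h2 : orderOf (f U) ∣ orderOf u := by
    refine (orderOf_map_dvd f U).trans ?_
    rw [← Subgroup.orderOf_coe U]
  exact Subgroup.mem_subgroupOf.1 ((QuotientGroup.eq_one_iff U).1
    (orderOf_eq_one_iff.1 (Nat.eq_one_of_dvd_coprimes (hco.pow_right k) h2 h1)))

theorem isSylowIn_sup {G : Type*} [Group G] [Finite G] [Fact p.Prime] {A M : Subgroup G}
    (hM : IsPGroup p M) (hMA : M ≤ Subgroup.normalizer (A : Set G))
    (hsyl : IsSylowIn p (M ⊓ A) A) : IsSylowIn p M (A ⊔ M) := by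
  refine isSylowIn_of_card_le hM le_sup_right fun Z hZ hZU => ?_
  have : (A.subgroupOf (A ⊔ M)).Normal :=
    (Subgroup.normal_subgroupOf_iff_le_normalizer le_sup_left).2 (sup_le Subgroup.le_normalizer hMA)
  set f := QuotientGroup.mk' (A.subgroupOf (A ⊔ M))
  have hker : f.ker = A.subgroupOf (A ⊔ M) := QuotientGroup.ker_mk' _
  have hcard : ∀ {K : Subgroup G}, K ≤ A ⊔ M →
      Nat.card ↥(K.subgroupOf (A ⊔ M) ⊓ f.ker) = Nat.card ↥(K ⊓ A) := fun {K} hK => by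
    rw [hker, show K.subgroupOf (A ⊔ M) ⊓ A.subgroupOf (A ⊔ M) = (K ⊓ A).subgroupOf (A ⊔ M) from
      (Subgroup.comap_inf K A _).symm]
    exact Nat.card_congr (Subgroup.subgroupOfEquivOfLe (inf_le_left.trans hK)).toEquiv
  rw [← Nat.card_congr (Subgroup.subgroupOfEquivOfLe hZU).toEquiv,
    ← Nat.card_congr (Subgroup.subgroupOfEquivOfLe (le_sup_right : M ≤ A ⊔ M)).toEquiv]
  refine card_le_of_hom f ?_ ?_
  · rintro _ ⟨z, -, rfl⟩
    have hz : (z : G) ∈ (↑(A ⊔ M) : Set G) := z.2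
    rw [Subgroup.coe_mul_of_right_le_normalizer_left A M hMA] at hz
    obtain ⟨a, ha, m, hm, heq⟩ := hz
    refine ⟨⟨m, Subgroup.mem_sup_right hm⟩, hm, ?_⟩
    have h1 : z = ⟨a, Subgroup.mem_sup_left ha⟩ * ⟨m, Subgroup.mem_sup_right hm⟩ :=
      Subtype.ext heq.symm
    have h2 : f ⟨a, Subgroup.mem_sup_left ha⟩ = 1 :=
      (QuotientGroup.eq_one_iff _).2 (Subgroup.mem_subgroupOf.2 ha)
    rw [h1, map_mul, h2, one_mul]
  · rw [hcard hZU, hcard le_sup_right]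
    exact hsyl.card_le inf_le_right (hZ.to_le inf_le_left) inf_le_right

/-! ### Maps trivial modulo `T` -/

/-- The maps of the generated system trivial modulo `T` with restriction in `E`. -/
def Spec (F : Cfsg.FusionSystem S) (E : Cfsg.FusionSystem T) (p : ℕ) {X : Subgroup Ω}
    (ψ : X →* Ω) : Prop :=
  ψ ∈ (prodSys F E p 0).Hom X ∧ Lam E ψ 1

theorem spec_subtype (hXS : X ≤ S) : Spec F E p X.subtype :=
  ⟨subtype_mem _ hXS, lam_one_of_sideSub (one_mem (sideSub F E X))⟩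

theorem Spec.restrict {ψ : Y →* Ω} (h : Spec F E p ψ) (hXY : X ≤ Y) :
    Spec F E p (ψ.comp (Subgroup.inclusion hXY)) :=
  ⟨restrict_mem h.1 hXY, fun x => h.2.1 (Subgroup.inclusion hXY x),
    mem_of_restrict h.2.2 (inf_le_inf_right T hXY) _ fun _ => rfl⟩

theorem Spec.comp [Finite S] (hinv : E.IsInvariantIn F) {φ : X →* Ω} {ψ : Y →* Ω}
    (h : Spec F E p φ) (h' : Spec F E p ψ) (hY : ∀ x : X, φ x ∈ Y) :
    Spec F E p (ψ.comp (φ.codRestrict Y hY)) := by
  refine ⟨(prodSys F E p 0).comp_mem h.1 h'.1 hY, ?_⟩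
  have := lam_comp hinv (prodSys_sub 0 _ h.1) (one_mem S) h.2 h'.2 hY
  rwa [one_mul] at this

/-- The image of `V ≤ X`. -/
abbrev img (ψ : X →* Ω) (V : Subgroup Ω) : Subgroup Ω := (V.subgroupOf X).map ψ

theorem Spec.isConj_img {ψ : X →* Ω} (h : Spec F E p ψ) (hVX : V ≤ X) (hVT : V ≤ T) :
    E.IsConj V (img ψ V) := by
  have h1 := mem_of_restrict h.2.2 (le_inf hVX hVT) (ψ.comp (Subgroup.inclusion hVX)) fun x => by
    show ψ _ = (1 : Ω)⁻¹ * ψ (Subgroup.inclusion inf_le_left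
      (Subgroup.inclusion (le_inf hVX hVT) x)) * (1 : Ω)⁻¹⁻¹
    simp
    rfl
  exact ⟨_, h1, range_comp_inclusion hVX⟩

theorem Spec.img_le {ψ : X →* Ω} (h : Spec F E p ψ) (hVX : V ≤ X) (hVT : V ≤ T) : img ψ V ≤ T :=
  isConj_le_right (h.isConj_img hVX hVT)

theorem range_inf_eq [Finite S] (hT : F.StronglyClosed T) {ψ : X →* Ω} (hψ : ψ ∈ F.Hom X) :
    ψ.range ⊓ T = img ψ (X ⊓ T) := by
  obtain ⟨e, he, hex⟩ := exists_iso hψ rfl
  ext y
  constructor
  · rintro ⟨⟨x, rfl⟩, hy⟩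
    exact ⟨x, ⟨x.2, (mem_iff_of_iso he hT x).1 (by rw [hex]; exact hy)⟩, rfl⟩
  · rintro ⟨x, hx, rfl⟩
    exact ⟨⟨x, rfl⟩, stronglyClosed_apply_mem hT hψ x hx.2⟩

variable [Finite S] [Fact p.Prime]

theorem isTC_of_fn (hS : IsPGroup p S) (hE : E.IsNormalIn F p) (hN : E.IsFullyNormalized N)
    (hC : centralizerIn T N ≤ N) : IsTC F T N := by
  have hT : F.StronglyClosed T := hE.1.2.2.2.1
  have : Finite T := finite_of_le hT.1
  exact Comp.isTC_of_isCentric hE.1.2.2 (Descent.isCentric_of_centralizerIn_le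
    (isFullyCentralized_of_isFullyNormalized (hS.to_le hT.1) hE.1.1 hN) hC)

/-- Automorphisms of `E` at a fully normalized `N` extend to maps trivial modulo `T`. -/
theorem exists_spec_of_aut (hS : IsPGroup p S) (hF : F.IsSaturated p) (hE : E.IsNormalIn F p)
    (hTC : IsTC F T N) (hN : E.IsFullyNormalized N) (hNW : N ≤ W) (hW : W ≤ normalizerIn S N)
    (hTW : normalizerIn T N ≤ W) {u : MulAut N} (hu : u ∈ E.autGroup N) (hNX : N ≤ X) (hXW : X ≤ W)
    (hact : ∀ x (hx : x ∈ X), u * conjAut N x (hW (hXW hx)).2 * u⁻¹ ∈ autInducedBy W N) :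
    ∃ ψ : X →* Ω, Spec F E p ψ ∧ ∀ y : N, ψ (Subgroup.inclusion hNX y) = (u y : Ω) := by
  have hinv := hE.1.2.2
  have hT : F.StronglyClosed T := hinv.2.1
  have hWS : W ≤ S := hW.trans (normalizerIn_le S N)
  have hNT : N ≤ T := hTC.1
  have hNS : N ≤ S := hNT.trans hT.1
  have : Finite N := finite_of_le hNS
  have : Finite (MulAut N) := finite_mulAut
  have : Finite W := finite_of_le hWS
  have : Finite T := finite_of_le hT.1
  set A := E.autGroup N with hA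
  set M := autInducedBy W N with hMdef
  have hMA : M ≤ Subgroup.normalizer (A : Set (MulAut N)) := by
    intro m hm
    have hmF := autInducedBy_le_autGroup F hNS (autInducedBy_mono hWS N hm)
    refine Subgroup.mem_normalizer_iff.2 fun a => ⟨fun ha =>
      CfsgLib.FusionQuot.conj_mem_autGroup_of_invariant hinv hNT hmF ha, fun ha => ?_⟩
    have h1 := CfsgLib.FusionQuot.conj_mem_autGroup_of_invariant hinv hNT (inv_mem hmF) ha
    simpa [mul_assoc] using h1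
  have hMp : IsPGroup p M := isPGroup_autInducedBy_of_le hS hWS N
  have hMA' : M ⊓ A = autInducedBy T N := by
    refine le_antisymm (fun m hm => mem_autInducedBy_of_fn hS hE hN hm.2
      (autInducedBy_mono hWS N hm.1)) fun m hm => ⟨?_, autInducedBy_le_autGroup E hNT hm⟩
    obtain ⟨t, htN, ht, rfl⟩ := exists_eq_conjAut hm
    exact conjAut_mem_autInducedBy (hTW ⟨ht, htN⟩) _
  have hsylA : IsSylowIn p (M ⊓ A) A := by
    rw [hMA']
    obtain ⟨-, P₁, hP₁⟩ := isFullyAutomized_of_isFullyNormalized (hS.to_le hT.1) hE.1.1 hN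
    exact ⟨P₁, hP₁⟩
  set G := lamSub hinv (prodSys_sub (F := F) (E := E) (p := p) 0) hWS
  obtain ⟨ψ, hψ, -, hψu⟩ := exists_map_of_chain (S := W) (F := G) (p := p) hNW
    (le_inf le_rfl (hW.trans inf_le_right)) (A ⊔ M) (isSylowIn_sup hMp hMA hsylA)
    (fun Y hNY hY hpre c hc hco hcY => by
      have hYS : Y ≤ S := hY.trans hWS
      have hcA : c ∈ A := coprime_mem_of_sup hMp hMA hc hco
      have hbase : Base F T N := by
        unfold Base
        rwa [inf_eq_left.2 hNT]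
      have hcF : c ∈ F.autGroup N := CfsgLib.FusionQuot.autGroup_le_of_subsystem hinv.1 N hcA
      have hst : c ∈ setStab N (N ⊓ T) := fun x =>
        ⟨fun _ => ⟨x.2, hNT x.2⟩, fun _ => ⟨(c x).2, hNT (c x).2⟩⟩
      have hside : c ∈ sideSub F E N := Balance.mem_sideSub.2 ⟨hcF,
        fun x => T.mul_mem (T.inv_mem (hNT x.2)) (hNT (c x).2), resHom inf_le_left ⟨c, hst⟩,
        (mem_autGroup_iff_hom inf_le_right).2 (mem_of_restrict ((mem_autGroup_iff_hom hNT).1 hcA)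
          inf_le_left _ fun x => congrArg Subtype.val (agree_resHom inf_le_left hst x).symm),
        agree_resHom inf_le_left hst⟩
      obtain ⟨κ, hκ, hκc⟩ := exists_tr_ext hS hF hE hNS hbase hside hco hNY
        (hY.trans hW) fun y hy => by
          obtain ⟨y', hy'N, hy', heq⟩ := exists_eq_conjAut (hcY y hy)
          have hyN := (hW (hY hy)).2
          have hd : conjAut N (y' * y⁻¹) (mul_mem hy'N (inv_mem hyN)) ∈ A := by
            rw [← conjAut_mul hy'N (inv_mem hyN), ← conjAut_inv hyN, ← heq, mul_assoc, mul_assoc]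
            refine mul_mem hcA ?_
            rw [← mul_assoc]
            exact CfsgLib.FusionQuot.conj_mem_autGroup_of_invariant hinv hNT
              (autInducedBy_le_autGroup F hNS (conjAut_mem_autInducedBy (hYS hy) hyN))
              (inv_mem hcA)
          obtain ⟨t, htN, ht, hte⟩ := exists_eq_conjAut (mem_autInducedBy_of_fn hS hE hN hd
            (conjAut_mem_autInducedBy (S.mul_mem (hYS hy') (S.inv_mem (hYS hy))) _))
          have htW : t * y ∈ W := W.mul_mem (hTW ⟨ht, htN⟩) (hY hy)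
          have heq' : conjAut N (t * y) (hW htW).2 = conjAut N y' hy'N := by
            rw [← conjAut_mul htN hyN, ← hte, conjAut_mul]
            congr 1
            group
          have htY : t * y ∈ Y := hpre _ htW (heq' ▸ conjAut_mem_autInducedBy hy' _)
          refine ⟨t * y, htY, ?_, heq.trans heq'.symm⟩
          rw [← mul_assoc]
          exact (Subgroup.mem_normalizer_iff''.1
            (stronglyClosed_le_normalizer hT (hYS hy)) t).1 ht
      have hκh := (mem_autGroup_iff_hom hYS).1 (tr_mem_prodSys hYS (hbase.mono hNY) hκ)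
      exact ⟨_, ⟨hκh, hY, fun y => hY (κ y).2, 1, one_mem W,
        lam_one_of_sideSub (Tr.mem_sideSub hinv hκ)⟩, fun y => (κ y).2, fun y hy =>
        congrArg Subtype.val (hκc ⟨y, hy⟩)⟩)
    (Subgroup.mem_sup_left hu) hNX hXW hact le_sup_right
  obtain ⟨hψG, -, hψW, s, hs, hL⟩ := hψ
  have hsN : s ∈ Subgroup.normalizer (N : Set Ω) := (hW hs).2
  have hres := mem_of_restrict hL.2 (le_inf hNX hNT)
    ((MulAut.conj s⁻¹).toMonoidHom.comp (N.subtype.comp u.toMonoidHom)) fun y => by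
      show s⁻¹ * (u y : Ω) * s⁻¹⁻¹ =
        s⁻¹ * ψ (Subgroup.inclusion inf_le_left
          (Subgroup.inclusion (le_inf hNX hNT) y)) * s⁻¹⁻¹
      rw [← hψu]
      rfl
  have hsA : conjAut N s⁻¹ (inv_mem hsN) ∈ A := by
    have h1 : conjAut N s⁻¹ (inv_mem hsN) * u ∈ A := (mem_autGroup_iff_hom hNT).2 (by
      convert hres using 1
      exact MonoidHom.ext fun y => rfl)
    have h2 := mul_mem h1 (inv_mem hu)
    rwa [mul_inv_cancel_right] at h2
  obtain ⟨t, htN, ht, hte⟩ := exists_eq_conjAut (mem_autInducedBy_of_fn hS hE hN hsA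
    (conjAut_mem_autInducedBy (S.inv_mem (hWS hs)) _))
  set d := t⁻¹ * s⁻¹ with hd
  have hTS : S ≤ Subgroup.normalizer (T : Set Ω) := stronglyClosed_le_normalizer hT
  have hdS : d ∈ S := S.mul_mem (S.inv_mem (hT.1 ht)) (S.inv_mem (hWS hs))
  have hc1 : conjHom S s⁻¹ ∈ F.Hom S := F.conj_mem le_rfl (S.inv_mem (hWS hs))
  have hψS : ∀ x, ψ x ∈ S := fun x => hWS (hψW x)
  have hLd : Lam E (conjHom S d) (1 * s⁻¹) := by
    have h1 := lam_comp hinv hc1 (S.inv_mem (hWS hs)) lam_conj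
      (lam_conj_T (T.inv_mem ht) hTS) fun x => map_mem hc1 x
    rwa [show (conjHom S t⁻¹).comp ((conjHom S s⁻¹).codRestrict S fun x => map_mem hc1 x) =
      conjHom S d from MonoidHom.ext fun x => by
        show t⁻¹ * (s⁻¹ * (x : Ω) * s⁻¹⁻¹) * t⁻¹⁻¹ = d * x * d⁻¹
        rw [hd]
        group] at h1
  refine ⟨(conjHom S d).comp (ψ.codRestrict S hψS),
    ⟨(prodSys F E p 0).comp_mem hψG ((prodSys F E p 0).conj_mem le_rfl hdS) hψS, ?_⟩, fun y => ?_⟩
  · have h1 := lam_comp hinv (prodSys_sub 0 _ hψG) (hWS hs) hL hLd hψS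
    rwa [one_mul, inv_mul_cancel] at h1
  · show d * ψ (Subgroup.inclusion hNX y) * d⁻¹ = (u y : Ω)
    rw [hψu]
    have h1 : s⁻¹ * (u y : Ω) * s⁻¹⁻¹ = t * (u y : Ω) * t⁻¹ :=
      congrArg (fun a : MulAut N => ((a (u y) : N) : Ω)) hte
    calc d * (u y : Ω) * d⁻¹ = t⁻¹ * (s⁻¹ * (u y : Ω) * s⁻¹⁻¹) * t := by rw [hd]; group
      _ = (u y : Ω) := by rw [h1]; group

/-- A map trivial modulo `T` moves `V` onto a fully normalized subgroup, when no such map makes its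
centralizer grow. -/
theorem exists_spec_fn (hS : IsPGroup p S) (hF : F.IsSaturated p) (hE : E.IsNormalIn F p) :
    ∀ (X V : Subgroup Ω), V ≤ T → V ≤ X → X ≤ normalizerIn S V →
      (∀ χ : X →* Ω, Spec F E p χ → centralizerIn T (img χ V) ≤ img χ V) →
      IsTC F T V ∧ ∃ ψ : X →* Ω, Spec F E p ψ ∧ E.IsFullyNormalized (img ψ V) := by
  classical
  have hinv := hE.1.2.2
  have hT : F.StronglyClosed T := hinv.2.1
  have : Finite T := finite_of_le hT.1
  have hTp : IsPGroup p T := hS.to_le hT.1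
  intro X V
  induction hn : Nat.card T - Nat.card V using Nat.strong_induction_on generalizing X V with
  | _ n ih =>
  intro hVT hVX hXN hstar
  have hXS : X ≤ S := hXN.trans (normalizerIn_le S V)
  suffices hfn : ∃ ψ : X →* Ω, Spec F E p ψ ∧ E.IsFullyNormalized (img ψ V) by
    obtain ⟨ψ, hψ, hf⟩ := hfn
    refine ⟨(isTC_of_fn hS hE hf (hstar ψ hψ)).conj hT (isConj_symm ?_), ψ, hψ, hf⟩
    exact CfsgLib.FusionQuot.isConj_of_subsystem hinv.1 (hψ.isConj_img hVX hVT)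
  rcases hVT.eq_or_lt with hVeq | hVlt
  · subst hVeq
    refine ⟨_, spec_subtype hXS, ?_⟩
    rw [show img X.subtype V = V by
      rw [img, Subgroup.map_subgroupOf_eq_of_le hVX]]
    exact ⟨le_rfl, fun Q hQ => by rw [isConj_top_eq hQ]⟩
  -- maximize the normalizer
  set μ : (X →* Ω) → ℕ := fun χ => Nat.card (normalizerIn T (img χ V))
  obtain ⟨ψ₀, hψ₀, hmax⟩ : ∃ ψ₀, Spec F E p ψ₀ ∧ ∀ χ, Spec F E p χ → μ χ ≤ μ ψ₀ := by
    have hb : ∀ χ, μ χ ≤ Nat.card T := fun χ => Subgroup.card_le_of_le (normalizerIn_le _ _)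
    set q : ℕ → Prop := fun m => ∃ χ : X →* Ω, Spec F E p χ ∧ m ≤ μ χ
    have hq : q (Nat.findGreatest q (Nat.card T)) :=
      Nat.findGreatest_spec (P := q) (m := 0) (Nat.zero_le _) ⟨_, spec_subtype hXS, Nat.zero_le _⟩
    obtain ⟨ψ₀, hψ₀, hle⟩ := hq
    exact ⟨ψ₀, hψ₀, fun χ hχ => (Nat.le_findGreatest (hb χ) ⟨χ, hχ, le_rfl⟩).trans hle⟩
  -- the normalizer is fully normalized after a move
  set V₁ := img ψ₀ V
  have hV₁T : V₁ ≤ T := hψ₀.img_le hVX hVT
  have hψ₀F := prodSys_sub 0 _ hψ₀.1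
  set X₁ := ψ₀.range
  have hX₁S : X₁ ≤ S := range_le hψ₀F
  have hV₁X₁ : V₁ ≤ X₁ := Subgroup.map_le_range _ _
  have hX₁N : X₁ ≤ Subgroup.normalizer (V₁ : Set Ω) := by
    obtain ⟨e, -, hex⟩ := exists_iso hψ₀F rfl
    rintro _ ⟨x, rfl⟩
    refine Subgroup.mem_normalizer_iff.2 fun y => ?_
    have key : ∀ (g : X) (z : Ω), z ∈ V₁ → ψ₀ g * z * (ψ₀ g)⁻¹ ∈ V₁ := by
      rintro g _ ⟨v, hv, rfl⟩
      refine ⟨g * v * g⁻¹, conj_mem_of_mem_normalizer (hXN g.2).2 hv, ?_⟩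
      rw [map_mul, map_mul, map_inv]
    refine ⟨key x y, fun hy => ?_⟩
    have h1 := key x⁻¹ _ hy
    rw [map_inv] at h1
    simpa [mul_assoc] using h1
  set N₁ := normalizerIn T V₁
  have hX₁N₁ : X₁ ≤ Subgroup.normalizer (N₁ : Set Ω) := fun x hx =>
    Subgroup.mem_normalizer_iff.2 fun y => by
      have h1 := Subgroup.mem_normalizer_iff.1 (stronglyClosed_le_normalizer hT (hX₁S hx)) y
      have h2 := hX₁N hx
      refine ⟨fun hy => ⟨h1.1 hy.1, mul_mem (mul_mem h2 hy.2) (Subgroup.inv_mem _ h2)⟩, fun hy => ⟨h1.2 hy.1, ?_⟩⟩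
      have h3 := mul_mem (mul_mem (Subgroup.inv_mem _ h2) hy.2) h2
      rwa [show x⁻¹ * (x * y * x⁻¹) * x = y by group] at h3
  have hN₁T : N₁ ≤ T := normalizerIn_le _ _
  have hV₁lt : V₁ < T := lt_of_le_of_ne hV₁T fun h => by
    have h1 := isConj_card_eq (hψ₀.isConj_img hVX hVT)
    have h2 := Descent.card_lt_card_of_lt le_rfl hVlt
    rw [show Nat.card V₁ = Nat.card T by rw [h]] at h1
    omega
  have hV₁N₁ : V₁ < N₁ := lt_normalizerIn hTp hV₁lt
  set X₂ := X₁ ⊔ N₁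
  have hX₂S : X₂ ≤ S := sup_le hX₁S (hN₁T.trans hT.1)
  have hX₂N : X₂ ≤ normalizerIn S N₁ :=
    le_inf hX₂S (sup_le hX₁N₁ Subgroup.le_normalizer)
  have hψ₀X₂ : ∀ x : X, ψ₀ x ∈ X₂ := fun x => Subgroup.mem_sup_left ⟨x, rfl⟩
  have hstar₁ : ∀ χ : X₂ →* Ω, Spec F E p χ → centralizerIn T (img χ N₁) ≤ img χ N₁ := by
    intro χ hχ
    have h1 := hstar _ (hψ₀.comp hinv hχ hψ₀X₂)
    have h2 : img (χ.comp (ψ₀.codRestrict X₂ hψ₀X₂)) V ≤ img χ N₁ := by
      rintro _ ⟨v, hv, rfl⟩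
      exact ⟨⟨ψ₀ v, hψ₀X₂ v⟩, le_normalizerIn hV₁T ⟨v, hv, rfl⟩, rfl⟩
    exact (inf_le_inf_left _ (Subgroup.centralizer_le h2)).trans (h1.trans h2)
  have hcard : Nat.card V < Nat.card N₁ := by
    rw [isConj_card_eq (hψ₀.isConj_img hVX hVT)]
    exact Descent.card_lt_card_of_lt hN₁T hV₁N₁
  have := Subgroup.card_le_of_le hN₁T
  obtain ⟨-, χ, hχ, hNfn⟩ := ih (Nat.card T - Nat.card N₁) (by omega) X₂ N₁ rfl hN₁T le_sup_right
    hX₂N hstar₁
  -- the new position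
  set φ := χ.comp (ψ₀.codRestrict X₂ hψ₀X₂)
  have hφ : Spec F E p φ := hψ₀.comp hinv hχ hψ₀X₂
  have hφF := prodSys_sub 0 _ hφ.1
  have hχF := prodSys_sub 0 _ hχ.1
  set V₂ := img φ V
  set N := img χ N₁
  have hV₂T : V₂ ≤ T := hφ.img_le hVX hVT
  have hNT : N ≤ T := hχ.img_le le_sup_right hN₁T
  have hV₂N : V₂ ≤ N := by
    rintro _ ⟨v, hv, rfl⟩
    exact ⟨⟨ψ₀ v, hψ₀X₂ v⟩, le_normalizerIn hV₁T ⟨v, hv, rfl⟩, rfl⟩
  have hV₂eq : ∀ y : X₂, (y : Ω) ∈ V₁ → χ y ∈ V₂ := by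
    rintro y ⟨v, hv, hvy⟩
    refine ⟨v, hv, ?_⟩
    show χ ⟨ψ₀ v, _⟩ = χ y
    congr 1
    exact Subtype.ext hvy
  have hNle : N ≤ normalizerIn T V₂ := by
    rintro _ ⟨y, hy, rfl⟩
    refine ⟨hNT ⟨y, hy, rfl⟩, Subgroup.mem_normalizer_iff.2 fun z => ?_⟩
    have key : ∀ (g : X₂), (g : Ω) ∈ N₁ → ∀ z ∈ V₂, χ g * z * (χ g)⁻¹ ∈ V₂ := by
      rintro g hg _ ⟨v, hv, rfl⟩
      have h1 := hV₂eq (g * ⟨ψ₀ v, hψ₀X₂ v⟩ * g⁻¹)
        (conj_mem_of_mem_normalizer hg.2 ⟨v, hv, rfl⟩)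
      rwa [map_mul, map_mul, map_inv] at h1
    refine ⟨key y hy z, fun hz => ?_⟩
    have h1 := key y⁻¹ (N₁.inv_mem hy) _ hz
    rw [map_inv] at h1
    simpa [mul_assoc] using h1
  have hNc : Nat.card N = μ ψ₀ := (isConj_card_eq (hχ.isConj_img le_sup_right hN₁T)).symm
  have : Finite (normalizerIn T V₂) := finite_of_le (normalizerIn_le _ _)
  have hNeq : N = normalizerIn T V₂ :=
    Subgroup.eq_of_le_of_card_ge hNle ((hmax φ hφ).trans hNc.ge)
  have hNTC : IsTC F T N := isTC_of_fn hS hE hNfn (hstar₁ χ hχ)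
  refine ⟨φ, hφ, hV₂T, fun Q hQ => ?_⟩
  -- a larger normalizer contradicts maximality
  obtain ⟨V', hV', hV'fn⟩ := exists_isFullyNormalized E hV₂T
  refine (hV'fn.2 Q (isConj_trans (isConj_symm hV') hQ)).trans ?_
  obtain ⟨eV, heV, ψE, hψE, hψEN, hψEe⟩ := exists_normalizer_map hTp hE.1.1 hV'fn hV'
  have hψE' : ψE ∈ E.Hom (normalizerIn T V₂) := hψE
  set W' := (ψE.comp (Subgroup.inclusion hNeq.le)).range
  obtain ⟨g₁, hg₁, hg₁x⟩ := exists_iso (Q := W') (restrict_mem hψE' hNeq.le) rfl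
  obtain ⟨g₂, hg₂, ρ, hρ, hρN, hρg⟩ := exists_normalizer_map hTp hE.1.1 hNfn
    (isConj_symm hg₁.isConj)
  by_contra hlt
  rw [not_le, ← hNeq] at hlt
  have hW'N : W' ≤ normalizerIn T V' := by
    rintro _ ⟨x, rfl⟩
    exact hψEN _
  have hW'c : Nat.card W' = Nat.card N := (Nat.card_congr g₁.toEquiv).symm
  have : Finite (normalizerIn T V') := finite_of_le (normalizerIn_le _ _)
  set K := normalizerIn (normalizerIn T V') W'
  have hW'K : W' < K := lt_normalizerIn (hTp.to_le (normalizerIn_le _ _))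
    (lt_of_le_of_ne hW'N fun h => by rw [← h, hW'c] at hlt; exact lt_irrefl _ hlt)
  have hKN : K ≤ normalizerIn T W' := fun k hk => ⟨hk.1.1, hk.2⟩
  -- `a` moves `V₂` to a subgroup with larger normalizer
  set a : MulAut N := g₁.trans g₂ with hadef
  have haE : a ∈ E.autGroup N := (mem_autGroup_iff hNT).2 (hg₁.trans hg₂)
  have hV'W' : ∀ v : N, (v : Ω) ∈ V₂ → (g₁ v : Ω) ∈ V' := fun v hv => by
    rw [hg₁x]
    show ψE (Subgroup.inclusion _ v) ∈ V'
    rw [show Subgroup.inclusion hNeq.le v = ⟨((⟨(v : Ω), hv⟩ : V₂) : Ω), hNle v.2⟩ from rfl, hψEe]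
    exact (eV _).2
  have hV'pre : ∀ z ∈ V', ∃ v : N, (v : Ω) ∈ V₂ ∧ (g₁ v : Ω) = z := fun z hz => by
    obtain ⟨v, hv⟩ := eV.surjective ⟨z, hz⟩
    refine ⟨⟨v, hV₂N v.2⟩, v.2, ?_⟩
    rw [hg₁x]
    exact (hψEe v).trans (congrArg Subtype.val hv)
  set W'' := (ρ.comp (Subgroup.inclusion hKN)).range
  have hW''N : W'' ≤ normalizerIn T N := by
    rintro _ ⟨x, rfl⟩
    exact hρN _
  have hW''c : Nat.card N < Nat.card W'' := by
    rw [← hW'c]
    refine lt_of_lt_of_le (Descent.card_lt_card_of_lt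
      ((normalizerIn_le _ _).trans (normalizerIn_le _ _)) hW'K) (le_of_eq ?_)
    exact Nat.card_congr (MonoidHom.ofInjective (f := ρ.comp (Subgroup.inclusion hKN))
      fun x y hxy => Subgroup.inclusion_injective hKN (hom_inj hρ hxy)).toEquiv
  -- groups of automorphisms of `N`
  have hNS : N ≤ S := hNT.trans hT.1
  have : Finite N := finite_of_le hNS
  have : Finite (MulAut N) := finite_mulAut
  set X₃ := φ.range ⊔ N
  have hφS : φ.range ≤ S := range_le hφF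
  have hX₃N : X₃ ≤ normalizerIn S N := sup_le (fun x hx => by
      obtain ⟨z, rfl⟩ := hx
      refine ⟨map_mem hφF z, ?_⟩
      have hNdef : ∀ (g : X₂) (y : Ω), y ∈ N → χ g * y * (χ g)⁻¹ ∈ N := by
        rintro g _ ⟨w, hw, rfl⟩
        refine ⟨g * w * g⁻¹, conj_mem_of_mem_normalizer (hX₂N g.2).2 hw, ?_⟩
        rw [map_mul, map_mul, map_inv]
      refine Subgroup.mem_normalizer_iff.2 fun y => ⟨hNdef _ y, fun hy => ?_⟩
      have h1 := hNdef (⟨ψ₀ z, hψ₀X₂ z⟩ : X₂)⁻¹ _ hy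
      rw [map_inv] at h1
      have h2 : φ z = χ ⟨ψ₀ z, hψ₀X₂ z⟩ := rfl
      rw [h2] at h1
      simpa [mul_assoc] using h1) (le_normalizerIn hNS)
  have hX₃V : X₃ ≤ Subgroup.normalizer (V₂ : Set Ω) := sup_le (by
      rintro _ ⟨z, rfl⟩
      have key : ∀ (g : X) (y : Ω), y ∈ V₂ → φ g * y * (φ g)⁻¹ ∈ V₂ := by
        rintro g _ ⟨v, hv, rfl⟩
        refine ⟨g * v * g⁻¹, conj_mem_of_mem_normalizer (hXN g.2).2 hv, ?_⟩
        rw [map_mul, map_mul, map_inv]
      refine Subgroup.mem_normalizer_iff.2 fun y => ⟨key z y, fun hy => ?_⟩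
      have h1 := key z⁻¹ _ hy
      rw [map_inv] at h1
      simpa [mul_assoc] using h1)
    (hNle.trans inf_le_right)
  set W := normalizerIn T N ⊔ X₃
  have hWN : W ≤ normalizerIn S N := sup_le (inf_le_inf_right _ hT.1) hX₃N
  have hWS : W ≤ S := hWN.trans (normalizerIn_le S N)
  set A := E.autGroup N
  set M := autInducedBy W N
  have hAn : ∀ m ∈ F.autGroup N, ∀ x ∈ A, m * x * m⁻¹ ∈ A := fun m hm x hx =>
    CfsgLib.FusionQuot.conj_mem_autGroup_of_invariant hinv hNT hm hx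
  have hMF : M ≤ F.autGroup N := (autInducedBy_mono hWS N).trans (autInducedBy_le_autGroup F hNS)
  have hMA : M ≤ Subgroup.normalizer (A : Set (MulAut N)) := fun m hm =>
    Subgroup.mem_normalizer_iff.2 fun x => ⟨hAn m (hMF hm) x, fun hx => by
      have h1 := hAn m⁻¹ (inv_mem (hMF hm)) _ hx
      simpa [mul_assoc] using h1⟩
  have hMp : IsPGroup p M := isPGroup_autInducedBy_of_le hS hWS N
  set St := (A ⊔ M) ⊓ setStab N V₂
  have hStA : ∀ g ∈ St, ∀ x ∈ A, g * x * g⁻¹ ∈ A := fun g hg x hx =>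
    (Subgroup.mem_normalizer_iff.1 (sup_le Subgroup.le_normalizer hMA hg.1) x).1 hx
  have hBle : autInducedBy X₃ N ≤ St := by
    intro m hm
    refine ⟨Subgroup.mem_sup_right (autInducedBy_mono le_sup_right N hm), ?_⟩
    obtain ⟨x, hxN, hx, rfl⟩ := exists_eq_conjAut hm
    exact conjAut_mem_setStab hxN (hX₃V hx)
  have hBp : IsPGroup p (autInducedBy X₃ N) :=
    isPGroup_autInducedBy_of_le hS (hX₃N.trans (normalizerIn_le S N)) N
  obtain ⟨Sy, hSy⟩ := (hBp.comap_subtype :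
    IsPGroup p ((autInducedBy X₃ N).subgroupOf St)).exists_le_sylow
  set Ys := (Sy : Subgroup St).map St.subtype
  have hYsSt : Ys ≤ St := Subgroup.map_subtype_le _
  have hBY : autInducedBy X₃ N ≤ Ys := fun m hm => ⟨⟨m, hBle hm⟩, hSy hm, rfl⟩
  -- conjugate it into `M` by an element of `A`
  have hNTW : normalizerIn T N ≤ W := le_sup_left
  have hNW : N ≤ W := (le_normalizerIn hNT).trans le_sup_left
  have hsylA : IsSylowIn p (M ⊓ A) A := by
    rw [show M ⊓ A = autInducedBy T N from le_antisymm (fun m hm =>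
      mem_autInducedBy_of_fn hS hE hNfn hm.2 (autInducedBy_mono hWS N hm.1)) fun m hm => by
        refine ⟨?_, autInducedBy_le_autGroup E hNT hm⟩
        obtain ⟨t, htN, ht, rfl⟩ := exists_eq_conjAut hm
        exact conjAut_mem_autInducedBy (hNTW ⟨ht, htN⟩) _]
    obtain ⟨-, P₁, hP₁⟩ := isFullyAutomized_of_isFullyNormalized hTp hE.1.1 hNfn
    exact ⟨P₁, hP₁⟩
  obtain ⟨b, hb, hbY⟩ := (isSylowIn_sup hMp hMA hsylA).exists_conj_le
    (Sy.2.map St.subtype : IsPGroup p Ys) (hYsSt.trans inf_le_left)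
  obtain ⟨u, huA, huY⟩ : ∃ u ∈ A, ∀ y ∈ Ys, u * y * u⁻¹ ∈ M := by
    have hb' : b ∈ (↑(M ⊔ A) : Set (MulAut N)) := by rwa [sup_comm]
    rw [Subgroup.coe_mul_of_left_le_normalizer_right M A hMA] at hb'
    obtain ⟨m, hm, u, hu, rfl⟩ := hb'
    refine ⟨u, hu, fun y hy => ?_⟩
    have h1 := M.mul_mem (M.mul_mem (M.inv_mem hm) (hbY y hy)) hm
    rwa [show m⁻¹ * (m * u * y * (m * u)⁻¹) * m = u * y * u⁻¹ by group] at h1
  obtain ⟨ψ₁, hψ₁, hψ₁u⟩ := exists_spec_of_aut hS hF hE hNTC hNfn hNW hWN hNTW huA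
    (le_sup_right : N ≤ X₃) le_sup_right fun x hx =>
      huY _ (hBY (conjAut_mem_autInducedBy hx _))
  -- maximality
  have hφX₃ : ∀ x : X, φ x ∈ X₃ := fun x => Subgroup.mem_sup_left ⟨x, rfl⟩
  have hφ₁ := hφ.comp hinv hψ₁ hφX₃
  set V₃ := (V₂.subgroupOf N).map (N.subtype.comp u.toMonoidHom)
  have hV₃eq : img (ψ₁.comp (φ.codRestrict X₃ hφX₃)) V = V₃ := by
    ext y
    constructor
    · rintro ⟨v, hv, rfl⟩
      have h1 : φ v ∈ N := hV₂N ⟨v, hv, rfl⟩
      refine ⟨⟨φ v, h1⟩, ⟨v, hv, rfl⟩, ?_⟩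
      exact (hψ₁u ⟨φ v, h1⟩).symm
    · rintro ⟨w, hw, rfl⟩
      obtain ⟨v, hv, hvw⟩ := hw
      refine ⟨v, hv, ?_⟩
      refine Eq.trans ?_ (hψ₁u w)
      show ψ₁ ⟨φ v, _⟩ = _
      congr 1
      exact Subtype.ext hvw
  have hμ := hmax _ hφ₁
  have hNV₃ : N ≤ normalizerIn T V₃ := by
    intro n hn
    refine ⟨hNT hn, Subgroup.mem_normalizer_iff.2 fun y => ?_⟩
    have key : ∀ (g : N) (y : Ω), y ∈ V₃ → (g : Ω) * y * (g : Ω)⁻¹ ∈ V₃ := by
      rintro g _ ⟨w, hw, rfl⟩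
      refine ⟨u⁻¹ g * w * (u⁻¹ g)⁻¹, conj_mem_of_mem_normalizer
        (hNle (u⁻¹ g).2).2 hw, ?_⟩
      show ((u (u⁻¹ g * w * (u⁻¹ g)⁻¹) : N) : Ω) = _
      rw [map_mul, map_mul, map_inv u (u⁻¹ g), MulAut.apply_inv_self]
      rfl
    refine ⟨key ⟨n, hn⟩ y, fun hy => ?_⟩
    have h1 := key ⟨n, hn⟩⁻¹ _ hy
    simpa [mul_assoc] using h1
  have hV₃N : normalizerIn T V₃ = N := by
    have : Finite (normalizerIn T V₃) := finite_of_le (normalizerIn_le _ _)
    refine (Subgroup.eq_of_le_of_card_ge hNV₃ ?_).symm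
    rw [hNc, ← hV₃eq]
    exact hμ
  -- counting
  set Va := (autInducedBy W'' N).map (MulAut.conj a⁻¹).toMonoidHom
  have hVaA : Va ≤ A := by
    rintro _ ⟨m, hm, rfl⟩
    exact mul_mem (mul_mem (inv_mem haE) (autInducedBy_le_autGroup E hNT
      (autInducedBy_mono (hW''N.trans (normalizerIn_le _ _)) N hm))) (inv_mem (inv_mem haE))
  have hVaSt : Va ≤ St := by
    refine fun m hm => ⟨Subgroup.mem_sup_left (hVaA hm), ?_⟩
    obtain ⟨c, hc, rfl⟩ := hm
    obtain ⟨w, hwN, ⟨k, hk⟩, rfl⟩ := exists_eq_conjAut hc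
    -- `a` carries `V₂` to `g₂ (V')`, normalized by `w`
    have key : ∀ (k : K) (v : N), (v : Ω) ∈ V₂ → ∀ v' : N,
        (g₁ v' : Ω) = (k : Ω) * g₁ v * (k : Ω)⁻¹ → (v' : Ω) ∈ V₂ := by
      intro k v hv v' hv'
      obtain ⟨v'', hv'', hv''e⟩ :=
        hV'pre _ (hv' ▸ conj_mem_of_mem_normalizer k.2.1.2 (hV'W' v hv))
      exact g₁.injective (Subtype.ext hv''e) ▸ hv''
    have hconj : ∀ v : N, g₁ (a⁻¹ (conjAut N w hwN (a v))) =
        ⟨(k : Ω) * g₁ v * (k : Ω)⁻¹, conj_mem_of_mem_normalizer k.2.2 (g₁ v).2⟩ := by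
      intro v
      apply g₂.injective
      rw [show g₂ (g₁ (a⁻¹ (conjAut N w hwN (a v)))) = conjAut N w hwN (a v) from
        (MulAut.apply_inv_self _ a _ :)]
      refine Subtype.ext ?_
      rw [conjAut_apply, ← hρg]
      show w * ((g₂ (g₁ v) : N) : Ω) * w⁻¹ = ρ _
      rw [← hρg, ← hk]
      show ρ (Subgroup.inclusion hKN k) * _ * (ρ (Subgroup.inclusion hKN k))⁻¹ = _
      rw [← map_inv, ← map_mul, ← map_mul]
      rfl
    intro v
    show ((a⁻¹ (conjAut N w hwN ((a⁻¹)⁻¹ v)) : N) : Ω) ∈ V₂ ↔ _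
    rw [inv_inv]
    constructor
    · intro hv
      refine key k⁻¹ _ hv v ?_
      rw [hconj, Subgroup.coe_inv, inv_inv]
      group
    · intro hv
      exact key k v hv _ (by rw [hconj])
  obtain ⟨g, hg⟩ := exists_conj_le_sylow Sy
    (((isPGroup_autInducedBy_of_le hS ((hW''N.trans (normalizerIn_le _ _)).trans hT.1) N).map
      (MulAut.conj a⁻¹).toMonoidHom).comap_subtype : IsPGroup p (Va.subgroupOf St))
  have hcount : ∀ m ∈ Va, u * ((g : MulAut N) * m * (g : MulAut N)⁻¹) * u⁻¹ ∈ autInducedBy N N := by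
    intro m hm
    have h1 : (g : MulAut N) * m * (g : MulAut N)⁻¹ ∈ Ys :=
      ⟨g * ⟨m, hVaSt hm⟩ * g⁻¹, hg ⟨m, hVaSt hm⟩ hm, rfl⟩
    have h2 := huY _ h1
    have h3 : u * ((g : MulAut N) * m * (g : MulAut N)⁻¹) * u⁻¹ ∈ A :=
      mul_mem (mul_mem huA (hStA _ g.2 m (hVaA hm))) (inv_mem huA)
    obtain ⟨t, htN, ht, hte⟩ := exists_eq_conjAut
      (mem_autInducedBy_of_fn hS hE hNfn h3 (autInducedBy_mono hWS N h2))
    rw [hte]
    refine conjAut_mem_autInducedBy (hV₃N.le ⟨ht, ?_⟩) _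
    -- `t` normalizes `V₃`
    set c : MulAut N := (g : MulAut N) * m * (g : MulAut N)⁻¹
    have hcSt : c ∈ setStab N V₂ := (hYsSt h1).2
    have key : ∀ (d : MulAut N), d ∈ setStab N V₂ → ∀ (r : Ω)
        (hr : r ∈ Subgroup.normalizer (N : Set Ω)), u * d * u⁻¹ = conjAut N r hr →
        ∀ y ∈ V₃, r * y * r⁻¹ ∈ V₃ := by
      rintro d hd r hr hdr _ ⟨v, hv, rfl⟩
      refine ⟨d v, (hd v).2 hv, ?_⟩
      show ((u (d v) : N) : Ω) = r * ((u v : N) : Ω) * r⁻¹
      refine Eq.trans ?_ (congrArg (fun a : MulAut N => ((a (u v) : N) : Ω)) hdr)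
      simp [MulAut.mul_apply]
    refine Subgroup.mem_normalizer_iff.2 fun y => ⟨key c hcSt t htN hte y, fun hy => ?_⟩
    have h4 := key c⁻¹ ((setStab N V₂).inv_mem hcSt) t⁻¹ (inv_mem htN) (by
      rw [← conjAut_inv htN, ← hte]
      group) _ hy
    rwa [show t⁻¹ * (t * y * t⁻¹) * t⁻¹⁻¹ = y by group] at h4
  -- there are too many automorphisms induced by `W''`
  have hle : Nat.card (autInducedBy W'' N) ≤ Nat.card (autInducedBy N N) := by
    have hinj : Function.Injective (MulAut.conj a⁻¹).toMonoidHom := (MulAut.conj a⁻¹).injective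
    rw [← Subgroup.card_map_of_injective (K := autInducedBy W'' N) hinj]
    refine Nat.card_le_card_of_injective (fun m : Va =>
      (⟨_, hcount m m.2⟩ : autInducedBy N N)) fun m m' h => ?_
    exact Subtype.ext (mul_left_cancel (mul_right_cancel (mul_left_cancel (mul_right_cancel
      (congrArg Subtype.val h :)))))
  have hNW'' : N ≤ W'' := fun y hy => by
    have h1 := hρg (g₂.symm ⟨y, hy⟩)
    rw [MulEquiv.apply_symm_apply] at h1
    exact ⟨⟨_, hW'K.le (g₂.symm ⟨y, hy⟩).2⟩, h1⟩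
  refine absurd hle (not_le.2 ?_)
  have : Finite (autInducedBy W'' N) := inferInstance
  refine lt_of_le_of_ne (Subgroup.card_le_of_le (autInducedBy_mono hNW'' N)) fun heq => ?_
  have hAeq : autInducedBy N N = autInducedBy W'' N :=
    Subgroup.eq_of_le_of_card_ge (autInducedBy_mono hNW'' N) heq.ge
  refine absurd (Descent.card_le_of_le (P := W'') (S := N) fun w hw => ?_) (not_le.2 hW''c)
  obtain ⟨r, hrN, hr, hre⟩ := exists_eq_conjAut
    (hAeq.ge (conjAut_mem_autInducedBy hw (hW''N hw).2))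
  have hwT : w ∈ T := (hW''N hw).1
  have h5 : r⁻¹ * w ∈ N := hstar₁ χ hχ ⟨T.mul_mem (T.inv_mem (hNT hr)) hwT,
    Subgroup.mem_centralizer_iff.2 fun y hy => by
      have h6 : w * y * w⁻¹ = r * y * r⁻¹ :=
        congrArg (fun a : MulAut N => ((a ⟨y, hy⟩ : N) : Ω)) hre
      calc y * (r⁻¹ * w) = r⁻¹ * (r * y * r⁻¹) * w := by group
        _ = r⁻¹ * w * y := by rw [← h6]; group⟩
  simpa using N.mul_mem hr h5

end CfsgLib.Fusion.NormalProduct
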