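import Cfsg.Agent.Lib.Fusion.NormalProduct.Move

/-!
# Representatives of the classes meeting `T` in a centric subgroup

For a fully normalized `P` of the generated system with `P ⊓ T` fully normalized in the subsystem,
`Aut_S(P)` is a Sylow subgroup of the group generated by `Aut_S(P)` and the `Tr` automorphisms, and
the elements of that group extend to the normalizer as far as possible.
-/

set_option autoImplicit false
set_option linter.unusedSectionVars false

namespace CfsgLib.Fusion.NormalProduct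

open Cfsg Cfsg.FusionSystem CfsgLib.Fusion CfsgLib.Fusion.SatCriterion CfsgLib.Fusion.Balance
open CfsgLib.Fusion.Inter hiding Setup

variable {Ω : Type*} [Group Ω] {S T : Subgroup Ω} {F : Cfsg.FusionSystem S}
variable {E : Cfsg.FusionSystem T} {p : ℕ}
variable {P Q X V W : Subgroup Ω}

/-- The group generated by `trT` and `Aut_S(P)`. -/
def baseAut (F : Cfsg.FusionSystem S) (E : Cfsg.FusionSystem T) (p : ℕ) (P : Subgroup Ω) :
    Subgroup (MulAut P) :=
  trT F E p P ⊔ autInducedBy S P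

theorem mem_normalizer_inf (hT : F.StronglyClosed T) {s : Ω} (hs : s ∈ S)
    (hsP : s ∈ Subgroup.normalizer (P : Set Ω)) :
    s ∈ Subgroup.normalizer ((P ⊓ T : Subgroup Ω) : Set Ω) :=
  Subgroup.mem_normalizer_iff.2 fun x => by
    simp only [Subgroup.mem_inf]
    exact and_congr (Subgroup.mem_normalizer_iff.1 hsP x)
      (Subgroup.mem_normalizer_iff.1 (stronglyClosed_le_normalizer hT hs) x)

theorem mem_setStab_inf (hT : F.StronglyClosed T) (hPS : P ≤ S) {a : MulAut P}
    (ha : a ∈ F.autGroup P) : a ∈ setStab P (P ⊓ T) := fun x => by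
  have hiff := mem_iff_of_iso ((mem_autGroup_iff hPS).1 ha) hT x
  exact ⟨fun hx => ⟨x.2, hiff.1 hx.2⟩, fun hx => ⟨(a x).2, hiff.2 hx.2⟩⟩

theorem autInducedBy_normalizerIn (A P : Subgroup Ω) :
    autInducedBy (normalizerIn A P) P = autInducedBy A P :=
  le_antisymm (autInducedBy_mono (normalizerIn_le A P) P) fun m hm => by
    obtain ⟨x, hxN, hx, rfl⟩ := exists_eq_conjAut hm
    exact conjAut_mem_autInducedBy (show x ∈ normalizerIn A P from ⟨hx, hxN⟩) _

variable [Finite S] [Fact p.Prime]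

theorem autInducedBy_le_normalizer_trT (hE : E.IsNormalIn F p) (hPS : P ≤ S) :
    autInducedBy S P ≤ Subgroup.normalizer (trT F E p P : Set (MulAut P)) := by
  have hT : F.StronglyClosed T := hE.1.2.2.2.1
  intro m hm
  have key : ∀ m ∈ autInducedBy S P, ∀ a ∈ trT F E p P, m * a * m⁻¹ ∈ trT F E p P := by
    intro m hm a ha
    obtain ⟨s, hsN, hs, rfl⟩ := exists_eq_conjAut hm
    rw [← congr_eq_conj]
    exact trT_congr hT ((mem_autGroup_iff hPS).1
      (autInducedBy_le_autGroup F hPS (conjAut_mem_autInducedBy hs hsN)))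
      (F.conj_mem (normalizerIn_le S P) hs) (le_normalizerIn hPS) (inf_le_inf_right _ hT.1)
      (fun x => rfl) ha
  refine Subgroup.mem_normalizer_iff.2 fun a => ⟨key m hm a, fun ha => ?_⟩
  have h1 := key m⁻¹ (inv_mem hm) _ ha
  simpa [mul_assoc] using h1

theorem baseAut_le_autGroup (hE : E.IsNormalIn F p) (hPS : P ≤ S) :
    baseAut F E p P ≤ F.autGroup P :=
  sup_le (trT_le_autGroup hE hPS) (autInducedBy_le_autGroup F hPS)

theorem baseAut_le_prodSys (hE : E.IsNormalIn F p) (hPS : P ≤ S) (hP : Base F T P) :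
    baseAut F E p P ≤ (prodSys F E p 0).autGroup P :=
  sup_le (sup_le (trGrp_le_prodSys hPS hP)
      ((autInducedBy_mono hE.1.2.2.2.1.1 P).trans (autInducedBy_le_autGroup _ hPS)))
    (autInducedBy_le_autGroup _ hPS)

/-- Conjugation of a `p`-group of `Aut_E(V) Aut_W(V)` into `Aut_W(V)` by an element of `Aut_E(V)`. -/
theorem exists_conj_into (hS : IsPGroup p S) (hE : E.IsNormalIn F p) (hV : E.IsFullyNormalized V)
    (hWS : W ≤ S) (hTW : normalizerIn T V ≤ W) {U : Subgroup (MulAut V)} (hU : IsPGroup p U)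
    (hUle : U ≤ E.autGroup V ⊔ autInducedBy W V) :
    ∃ u ∈ E.autGroup V, ∀ y ∈ U, u * y * u⁻¹ ∈ autInducedBy W V := by
  have hinv := hE.1.2.2
  have hT : F.StronglyClosed T := hinv.2.1
  have hVT : V ≤ T := hV.1
  have hVS : V ≤ S := hVT.trans hT.1
  have : Finite V := finite_of_le hVS
  have : Finite (MulAut V) := finite_mulAut
  have : Finite T := finite_of_le hT.1
  set A := E.autGroup V
  set M := autInducedBy W V
  have hMA : M ≤ Subgroup.normalizer (A : Set (MulAut V)) := by
    intro m hm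
    have hmF := autInducedBy_le_autGroup F hVS (autInducedBy_mono hWS V hm)
    refine Subgroup.mem_normalizer_iff.2 fun a => ⟨fun ha =>
      CfsgLib.FusionQuot.conj_mem_autGroup_of_invariant hinv hVT hmF ha, fun ha => ?_⟩
    have h1 := CfsgLib.FusionQuot.conj_mem_autGroup_of_invariant hinv hVT (inv_mem hmF) ha
    simpa [mul_assoc] using h1
  have hsylA : IsSylowIn p (M ⊓ A) A := by
    rw [show M ⊓ A = autInducedBy T V from le_antisymm (fun m hm =>
      mem_autInducedBy_of_fn hS hE hV hm.2 (autInducedBy_mono hWS V hm.1)) fun m hm => by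
        refine ⟨?_, autInducedBy_le_autGroup E hVT hm⟩
        obtain ⟨t, htN, ht, rfl⟩ := exists_eq_conjAut hm
        exact conjAut_mem_autInducedBy (hTW ⟨ht, htN⟩) _]
    obtain ⟨-, P₁, hP₁⟩ := isFullyAutomized_of_isFullyNormalized (hS.to_le hT.1) hE.1.1 hV
    exact ⟨P₁, hP₁⟩
  obtain ⟨b, hb, hbU⟩ := (isSylowIn_sup (isPGroup_autInducedBy_of_le hS hWS V) hMA
    hsylA).exists_conj_le hU hUle
  have hb' : b ∈ (↑(M ⊔ A) : Set (MulAut V)) := by rwa [sup_comm]
  rw [Subgroup.coe_mul_of_left_le_normalizer_right M A hMA] at hb'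
  obtain ⟨m, hm, u, hu, rfl⟩ := hb'
  refine ⟨u, hu, fun y hy => ?_⟩
  have h1 := M.mul_mem (M.mul_mem (M.inv_mem hm) (hbU y hy)) hm
  rwa [show m⁻¹ * (m * u * y * (m * u)⁻¹) * m = u * y * u⁻¹ by group] at h1

/-- A fully normalized representative meeting `T` in a subgroup fully normalized in `E`. -/
theorem exists_rep (hS : IsPGroup p S) (hF : F.IsSaturated p) (hE : E.IsNormalIn F p)
    {R : Subgroup Ω} (hRS : R ≤ S) (hR : Base F T R) :
    ∃ P, (prodSys F E p 0).IsConj R P ∧ (prodSys F E p 0).IsFullyNormalized P ∧ Base F T P ∧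
      E.IsFullyNormalized (P ⊓ T) := by
  have hinv := hE.1.2.2
  have hT : F.StronglyClosed T := hinv.2.1
  obtain ⟨P₁, hc, hP₁⟩ := exists_isFullyNormalized (prodSys F E p 0) hRS
  obtain ⟨e₁, he₁⟩ := exists_iso_of_isConj (CfsgLib.FusionQuot.isConj_of_subsystem (prodSys_sub 0) hc)
  have hB₁ : Base F T P₁ := hR.of_iso hT he₁
  have hP₁S : P₁ ≤ S := hP₁.1
  have hXV : normalizerIn S P₁ ≤ normalizerIn S (P₁ ⊓ T) := fun x hx =>
    ⟨hx.1, mem_normalizer_inf hT hx.1 hx.2⟩
  have hVX : P₁ ⊓ T ≤ normalizerIn S P₁ := inf_le_left.trans (le_normalizerIn hP₁S)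
  obtain ⟨-, ψ, hψ, hfn⟩ := exists_spec_fn hS hF hE (normalizerIn S P₁) (P₁ ⊓ T) inf_le_right hVX
    hXV fun χ hχ => (hB₁.conj hT (CfsgLib.FusionQuot.isConj_of_subsystem hinv.1
      (hχ.isConj_img hVX inf_le_right))).self hT.1
  have hr := restrict_mem hψ.1 (le_normalizerIn hP₁S)
  set P := (ψ.comp (Subgroup.inclusion (le_normalizerIn hP₁S))).range with hPdef
  obtain ⟨f, hf, hfx⟩ := exists_iso hr rfl
  have hψF := prodSys_sub 0 _ hψ.1
  have hfn' : E.IsFullyNormalized (P ⊓ T) := by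
    rw [range_inf_eq hT (prodSys_sub 0 _ hr)]
    convert hfn using 1
    ext y
    constructor
    · rintro ⟨x, hx, rfl⟩
      exact ⟨Subgroup.inclusion (le_normalizerIn hP₁S) x, hx, rfl⟩
    · rintro ⟨x, hx, rfl⟩
      exact ⟨⟨x, hx.1⟩, hx, rfl⟩
  refine ⟨P, isConj_trans hc hf.isConj, ⟨range_le hr, fun Q hQ => ?_⟩,
    hB₁.of_iso hT (show IsFIso F f from prodSys_sub 0 _ hf), hfn'⟩
  refine (hP₁.2 Q (isConj_trans hf.isConj hQ)).trans ?_
  have : Finite (normalizerIn S P) := finite_of_le (normalizerIn_le S P)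
  exact Nat.card_le_card_of_injective (fun x => (⟨ψ x, map_mem hψ.1 x,
    map_mem_normalizer_of_extends (e := f) (le_normalizerIn hP₁S) (fun y => (hfx y).symm) x.2
      x.2.2⟩ : normalizerIn S P)) fun a b hab => hom_inj hψ.1 (Subtype.ext_iff.1 hab :)

/-- `Aut_S(P)` is a Sylow subgroup of `baseAut` at a representative. -/
theorem sylow_baseAut (hS : IsPGroup p S) (hF : F.IsSaturated p) (hE : E.IsNormalIn F p)
    (hP : (prodSys F E p 0).IsFullyNormalized P) (hB : Base F T P)
    (hV : E.IsFullyNormalized (P ⊓ T)) : IsSylowIn p (autInducedBy S P) (baseAut F E p P) := by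
  have hinv := hE.1.2.2
  have hT : F.StronglyClosed T := hinv.2.1
  have hPS : P ≤ S := hP.1
  have : Finite P := finite_of_le hPS
  have : Finite (MulAut P) := finite_mulAut
  have hSp : IsPGroup p (autInducedBy S P) := isPGroup_autInducedBy hS P
  refine isSylowIn_of_card_le hSp le_sup_right fun U hU hUg => ?_
  obtain ⟨Sy, hSy⟩ := (hSp.comap_subtype :
    IsPGroup p ((autInducedBy S P).subgroupOf (baseAut F E p P))).exists_le_sylow
  set Y := (Sy : Subgroup (baseAut F E p P)).map (baseAut F E p P).subtype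
  have hY : IsPGroup p Y := Sy.2.map _
  have hYg : Y ≤ baseAut F E p P := Subgroup.map_subtype_le _
  have hSY : autInducedBy S P ≤ Y := fun m hm =>
    ⟨⟨m, Subgroup.mem_sup_right hm⟩, hSy hm, rfl⟩
  have hYsyl : IsSylowIn p Y (baseAut F E p P) :=
    ⟨Sy, (Subgroup.comap_map_eq_self_of_injective (Subgroup.subtype_injective _) _).symm⟩
  refine (hYsyl.card_le hYg hU hUg).trans ?_
  -- the restrictions to `P ⊓ T`
  set V := P ⊓ T with hVdef
  have hVT : V ≤ T := inf_le_right
  have hVP : V ≤ P := inf_le_left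
  set W := normalizerIn T V ⊔ normalizerIn S P with hWdef
  have hWN : W ≤ normalizerIn S V := sup_le (inf_le_inf_right _ hT.1)
    fun x hx => ⟨hx.1, mem_normalizer_inf hT hx.1 hx.2⟩
  have hWS : W ≤ S := hWN.trans (normalizerIn_le S V)
  have hst : ∀ y ∈ Y, y ∈ setStab P V := fun y hy =>
    mem_setStab_inf hT hPS (baseAut_le_autGroup hE hPS (hYg hy))
  have hdec : ∀ y ∈ baseAut F E p P, ∃ a ∈ trT F E p P, ∃ s ∈ S,
      ∃ hsN : s ∈ Subgroup.normalizer (P : Set Ω), y = a * conjAut P s hsN := by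
    intro y hy
    have hy' : y ∈ (↑(trT F E p P ⊔ autInducedBy S P) : Set (MulAut P)) := hy
    rw [Subgroup.coe_mul_of_right_le_normalizer_left _ _
      (autInducedBy_le_normalizer_trT hE hPS)] at hy'
    obtain ⟨a, ha, m, hm, rfl⟩ := hy'
    obtain ⟨s, hsN, hs, rfl⟩ := exists_eq_conjAut hm
    exact ⟨a, ha, s, hs, hsN, rfl⟩
  set YV := (Y.subgroupOf (setStab P V)).map (resHom hVP)
  have hYV : YV ≤ E.autGroup V ⊔ autInducedBy W V := by
    rintro _ ⟨⟨y, hys⟩, hy, rfl⟩
    obtain ⟨a, ha, s, hs, hsN, rfl⟩ := hdec y (hYg hy)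
    obtain ⟨-, -, γ, hγ, hag⟩ := Balance.mem_sideSub.1 (trT_le_sideSub hE hPS ha)
    have h1 : Agree hVP (a * conjAut P s hsN) (γ * conjAut V s (mem_normalizer_inf hT hs hsN)) :=
      (show Agree hVP a γ from hag).mul (agree_conjAut hVP hsN _)
    rw [Agree.unique (agree_resHom hVP hys) h1]
    exact mul_mem (Subgroup.mem_sup_left hγ) (Subgroup.mem_sup_right
      (conjAut_mem_autInducedBy (le_sup_right (a := normalizerIn T V) (b := normalizerIn S P)
        ⟨hs, hsN⟩) _))
  obtain ⟨u, hu, huY⟩ := exists_conj_into hS hE hV hWS le_sup_left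
    (((hY.comap_subtype : IsPGroup p (Y.subgroupOf (setStab P V))).map _) : IsPGroup p YV) hYV
  have hVX : V ≤ normalizerIn S P := hVP.trans (le_normalizerIn hPS)
  obtain ⟨ψ, hψ, hψu⟩ := exists_spec_of_aut hS hF hE hB hV (hVX.trans le_sup_right) hWN le_sup_left
    hu hVX le_sup_right fun x hx => by
      refine huY _ ?_
      have hxP : conjAut P x hx.2 ∈ Y := hSY (conjAut_mem_autInducedBy hx.1 _)
      exact ⟨⟨_, hst _ hxP⟩, hxP, Agree.unique (agree_resHom hVP (hst _ hxP))
        (agree_conjAut hVP hx.2 _)⟩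
  -- move `P`
  have hψF := prodSys_sub 0 _ hψ.1
  have hPX : P ≤ normalizerIn S P := le_normalizerIn hPS
  have hr := restrict_mem hψ.1 hPX
  set P' := (ψ.comp (Subgroup.inclusion hPX)).range with hP'def
  obtain ⟨f, hf, hfx⟩ := exists_iso hr rfl
  have hfF : IsFIso F f := prodSys_sub 0 _ hf
  have hψe : ∀ x : P, ψ ⟨x, hPX x.2⟩ = (f x : Ω) := fun x => (hfx x).symm
  have hP'S : P' ≤ S := range_le hr
  have hfV : ∀ v : V, (f (Subgroup.inclusion hVP v) : Ω) = (u v : Ω) := fun v =>
    (hfx _).trans (hψu v)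
  have hV' : P' ⊓ T = V := by
    ext z
    constructor
    · rintro ⟨hz, hzT⟩
      obtain ⟨x, hx⟩ := f.surjective ⟨z, hz⟩
      have hxT : (x : Ω) ∈ T := (mem_iff_of_iso hfF hT x).1 (by rw [hx]; exact hzT)
      have h1 := hfV ⟨x, x.2, hxT⟩
      rw [show Subgroup.inclusion hVP (⟨(x : Ω), x.2, hxT⟩ : V) = x from rfl, hx] at h1
      exact (show z = _ from h1) ▸ (u _).2
    · intro hz
      have h1 := hfV (u⁻¹ ⟨z, hz⟩)
      rw [MulAut.apply_inv_self] at h1
      exact (show _ = z from h1) ▸ ⟨(f _).2, h1.symm ▸ hVT hz⟩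
  have : Finite (normalizerIn S P') := finite_of_le (normalizerIn_le S P')
  have hψN : ∀ x : normalizerIn S P, ψ x ∈ normalizerIn S P' := fun x =>
    ⟨map_mem hψF x, map_mem_normalizer_of_extends hPX hψe x.2 x.2.2⟩
  have hsurj : ψ.range = normalizerIn S P' := by
    refine Subgroup.eq_of_le_of_card_ge (by rintro _ ⟨x, rfl⟩; exact hψN x) ?_
    exact (hP.2 P' hf.isConj).trans (Nat.card_congr (MonoidHom.ofInjective (hom_inj hψF)).toEquiv).le
  have hB' : IsTC F T (P' ⊓ T) := by rw [hV']; exact hB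
  have hfn' : E.IsFullyNormalized (P' ⊓ T) := by rw [hV']; exact hV
  have hcongr : ∀ y ∈ Y, MulAut.congr f y ∈ autInducedBy S P' := by
    intro y hy
    obtain ⟨a, ha, s, hs, hsN, hye⟩ := hdec y (hYg hy)
    obtain ⟨w, hwV, hw, hwe⟩ := exists_eq_conjAut
      (huY (resHom hVP ⟨y, hst y hy⟩) ⟨⟨y, hst y hy⟩, hy, rfl⟩)
    set k : Ω := ψ ⟨s, hs, hsN⟩
    have hk : k ∈ normalizerIn S P' := hψN _
    set a' := MulAut.congr f a
    have ha' : a' ∈ trT F E p P' :=
      trT_congr hT hfF hψF hPX (inf_le_inf_right _ hT.1) hψe ha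
    have hyk : MulAut.congr f y = a' * conjAut P' k hk.2 := by
      rw [hye, map_mul, congr_conjAut_eq_of_extends hPX hψe ⟨hs, hsN⟩ hsN]
    have hst' : a' ∈ setStab P' (P' ⊓ T) :=
      mem_setStab_inf hT hP'S (trT_le_autGroup hE hP'S ha')
    have h1 : a' ∈ autInducedBy T P' := mem_autInducedBy_of_res hS hF hE hP'S hB' hfn' ha'
      (agree_resHom inf_le_left hst') (mem_autInducedBy_iff.2
        ⟨w * k⁻¹, S.mul_mem (hWS hw) (S.inv_mem hk.1), fun x => ?_⟩)
    · rw [hyk]
      exact mul_mem (autInducedBy_mono hT.1 P' h1) (conjAut_mem_autInducedBy hk.1 _)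
    show ((a' (Subgroup.inclusion inf_le_left x) : P') : Ω) = _
    have hx : (x : Ω) ∈ V := hV'.le x.2
    have hkV : k ∈ Subgroup.normalizer (V : Set Ω) := by
      have h2 := mem_normalizer_inf (P := P') hT hk.1 hk.2
      rwa [hV'] at h2
    have hx' : k⁻¹ * x * k ∈ V := (Subgroup.mem_normalizer_iff''.1 hkV x).1 hx
    obtain ⟨v, hv⟩ := u.surjective ⟨k⁻¹ * x * k, hx'⟩
    have h2 : f (Subgroup.inclusion hVP v) = (⟨k⁻¹ * x * k, by
        exact hV'.ge hx' |>.1⟩ : P') := Subtype.ext ((hfV v).trans (congrArg Subtype.val hv))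
    have h3 := congrArg (fun b : MulAut P' => ((b (f (Subgroup.inclusion hVP v)) : P') : Ω)) hyk
    simp only [MulAut.mul_apply] at h3
    rw [congr_apply, MulEquiv.symm_apply_apply, agree_resHom hVP (hst y hy), hfV] at h3
    have h4 : ((u (resHom hVP ⟨y, hst y hy⟩ v) : V) : Ω) = w * (k⁻¹ * x * k) * w⁻¹ := by
      have h5 := congrArg (fun b : MulAut V => ((b (u v) : V) : Ω)) hwe
      simp only [MulAut.mul_apply, MulAut.inv_apply_self] at h5
      rw [h5, hv]
      rfl
    rw [h4, show conjAut P' k hk.2 (f (Subgroup.inclusion hVP v)) = Subgroup.inclusion inf_le_left x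
      from by rw [h2]; exact Subtype.ext (by
        show k * (k⁻¹ * x * k) * k⁻¹ = (x : Ω)
        group)] at h3
    rw [← h3]
    group
  -- counting
  have : Finite P' := finite_of_le hP'S
  have : Finite (MulAut P') := finite_mulAut
  refine (Nat.card_le_card_of_injective (fun y : Y => (⟨_, hcongr y y.2⟩ : autInducedBy S P'))
    fun y y' h => Subtype.ext ((MulAut.congr f).injective (Subtype.ext_iff.1 h :))).trans ?_
  rw [← Subgroup.card_map_of_injective (K := autInducedBy S P)
    (show Function.Injective (MulAut.congr f).toMonoidHom from (MulAut.congr f).injective)]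
  refine Subgroup.card_le_of_le fun m hm => ?_
  obtain ⟨z, hzN, hz, rfl⟩ := exists_eq_conjAut hm
  obtain ⟨x, hx⟩ : z ∈ ψ.range := hsurj.ge ⟨hz, hzN⟩
  refine ⟨conjAut P x x.2.2, conjAut_mem_autInducedBy x.2.1 _, ?_⟩
  show MulAut.congr f (conjAut P x x.2.2) = _
  rw [congr_conjAut_eq_of_extends hPX hψe x.2 x.2.2]
  refine MulEquiv.ext fun y => Subtype.ext ?_
  rw [conjAut_apply, conjAut_apply, hx]

/-- Extension of the elements of `baseAut` at a representative. -/
theorem exists_map_of_baseAut (hS : IsPGroup p S) (hF : F.IsSaturated p) (hE : E.IsNormalIn F p)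
    (hP : (prodSys F E p 0).IsFullyNormalized P) (hB : Base F T P)
    (hV : E.IsFullyNormalized (P ⊓ T)) {c : MulAut P} (hc : c ∈ baseAut F E p P) (hPX : P ≤ X)
    (hX : X ≤ normalizerIn S P)
    (hact : ∀ x (hx : x ∈ X), c * conjAut P x (hX hx).2 * c⁻¹ ∈ autInducedBy S P) :
    ∃ ψ ∈ (prodSys F E p 0).Hom X, ∀ y : P, ψ (Subgroup.inclusion hPX y) = (c y : Ω) := by
  have hinv := hE.1.2.2
  have hT : F.StronglyClosed T := hinv.2.1
  have hPS : P ≤ S := hP.1
  have : Finite P := finite_of_le hPS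
  have : Finite (MulAut P) := finite_mulAut
  set W := normalizerIn S P with hWdef
  have hWeq : autInducedBy W P = autInducedBy S P := autInducedBy_normalizerIn S P
  obtain ⟨ψ, hψ, -, hψc⟩ := exists_map_of_chain (F := prodSys F E p 0) (p := p)
    (le_normalizerIn hPS) (le_refl W) (baseAut F E p P) (hWeq ▸ sylow_baseAut hS hF hE hP hB hV)
    (fun Y hPY hY hpre b hb hbco hbY => by
      have hbt : b ∈ trT F E p P := coprime_mem_of_sup (isPGroup_autInducedBy hS P)
        (autInducedBy_le_normalizer_trT hE hPS) hb hbco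
      have hYS : Y ≤ S := hY.trans (normalizerIn_le S P)
      obtain ⟨κ, hκ, hκb⟩ := exists_tr_ext hS hF hE hPS hB (trT_le_sideSub hE hPS hbt) hbco hPY hY
        fun y hy => by
          obtain ⟨y', hy'N, hy', heq⟩ := exists_eq_conjAut (hbY y hy)
          have hyN := (hY hy).2
          set d := conjAut P (y' * y⁻¹) (mul_mem hy'N (inv_mem hyN)) with hd
          have hdt : d ∈ trT F E p P := by
            rw [hd, ← conjAut_mul hy'N (inv_mem hyN), ← conjAut_inv hyN, ← heq, mul_assoc, mul_assoc]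
            refine mul_mem hbt ?_
            rw [← mul_assoc]
            exact (Subgroup.mem_normalizer_iff.1 (autInducedBy_le_normalizer_trT hE hPS
              (conjAut_mem_autInducedBy (hYS hy) hyN)) _).1 (inv_mem hbt)
          have hdS : y' * y⁻¹ ∈ S := S.mul_mem (hYS hy') (S.inv_mem (hYS hy))
          obtain ⟨t, htN, ht, hte⟩ := exists_eq_conjAut (mem_autInducedBy_of_res hS hF hE hPS hB hV
            hdt (agree_conjAut inf_le_left _ (mem_normalizer_inf hT hdS (mul_mem hy'N (inv_mem hyN))))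
            (conjAut_mem_autInducedBy hdS _))
          have htW : t * y ∈ W := ⟨S.mul_mem (hT.1 ht) (hYS hy), mul_mem htN hyN⟩
          have heq' : conjAut P (t * y) htW.2 = conjAut P y' hy'N := by
            rw [← conjAut_mul htN hyN, ← hte, hd, conjAut_mul]
            congr 1
            group
          have htY : t * y ∈ Y := hpre _ htW (heq' ▸ conjAut_mem_autInducedBy hy' _)
          refine ⟨t * y, htY, ?_, heq.trans heq'.symm⟩
          rw [← mul_assoc]
          exact (Subgroup.mem_normalizer_iff''.1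
            (stronglyClosed_le_normalizer hT (hYS hy)) t).1 ht
      exact ⟨_, (mem_autGroup_iff_hom hYS).1 (tr_mem_prodSys hYS (hB.mono hPY) hκ),
        fun y => (κ y).2, fun y hy => congrArg Subtype.val (hκb ⟨y, hy⟩)⟩)
    hc hPX hX (fun x hx => hWeq.symm ▸ hact x hx) (hWeq.le.trans le_sup_right)
  exact ⟨ψ, hψ, hψc⟩

end CfsgLib.Fusion.NormalProduct
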