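import Cfsg.Agent.Lib.Fusion.NormalProduct.Rep

/-!
# The product of a normal subsystem with `S` is saturated

The saturation criterion below the classes meeting `T` in a centric subgroup, and a downward
induction at those classes.
-/

set_option autoImplicit false
set_option linter.unusedSectionVars false

namespace CfsgLib.Fusion.NormalProduct

open Cfsg Cfsg.FusionSystem CfsgLib.Fusion CfsgLib.Fusion.SatCriterion CfsgLib.Fusion.Balance
open CfsgLib.Fusion.Inter hiding Setup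

variable {Ω : Type*} [Group Ω] {S T : Subgroup Ω} {F : Cfsg.FusionSystem S}
variable {E : Cfsg.FusionSystem T} {p : ℕ}
variable {P Q R : Subgroup Ω}

theorem stronglyClosed_prodSys (hT : F.StronglyClosed T) (n : ℕ) :
    (prodSys F E p n).StronglyClosed T :=
  ⟨hT.1, fun R hR φ hφ => hT.2 R hR φ (prodSys_sub n _ hφ)⟩

variable [Finite S] [Fact p.Prime]

theorem base_top (hT : F.StronglyClosed T) : Base F T S := by
  unfold Base
  rw [inf_eq_right.2 hT.1]
  exact ⟨le_rfl, fun R hR => by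
    rw [CfsgLib.FusionQuot.eq_of_isConj_of_stronglyClosed hT hR]
    exact centralizerIn_le T T⟩

theorem base_of_isConj (hT : F.StronglyClosed T) {n : ℕ}
    (h : (prodSys F E p n).IsConj P Q) (hP : Base F T P) : Base F T Q := by
  obtain ⟨e, he⟩ := exists_iso_of_isConj (CfsgLib.FusionQuot.isConj_of_subsystem (prodSys_sub n) h)
  exact hP.of_iso hT he

/-- Classes above `n` agree in `prodSys n` and the full system. -/
theorem big_prodSys (hT : F.StronglyClosed T) {n : ℕ}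
    (h : Big (prodSys F E p 0) p n) : Big (prodSys F E p n) p n := by
  intro R hR hn
  have hup : ∀ {X : Subgroup Ω} {φ : X →* Ω}, φ ∈ (prodSys F E p 0).Hom X → n < Nat.card X →
      φ ∈ (prodSys F E p n).Hom X := fun hφ hX => (prodSys_decomp hT n hφ).2 hX
  obtain ⟨R', ⟨φ, hφ, hr⟩, hFA, hrec⟩ := h R hR hn
  have hc : (prodSys F E p 0).IsConj R R' := ⟨φ, hφ, hr⟩
  have hR'n : n < Nat.card R' := isConj_card_eq hc ▸ hn
  refine ⟨R', ⟨φ, hup hφ hn, hr⟩, ?_, hrec.1, fun P χ hχ hχr => ?_⟩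
  · have heq : (prodSys F E p n).autGroup R' = (prodSys F E p 0).autGroup R' :=
      le_antisymm (fun a ha => (mem_autGroup_iff_hom hFA.1).2
        (prodSys_le_zero n _ ((mem_autGroup_iff_hom hFA.1).1 ha))) fun a ha =>
        (mem_autGroup_iff_hom hFA.1).2 (hup ((mem_autGroup_iff_hom hFA.1).1 ha) hR'n)
    refine ⟨hFA.1, ?_⟩
    rw [heq]
    exact hFA.2
  · obtain ⟨ψ, hψ, hag⟩ := hrec.2 P χ (prodSys_le_zero n _ hχ) hχr
    have hPS : P ≤ S := dom_le hχ
    have : Finite (extender S P χ) :=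
      finite_of_le ((extender_le_normalizerIn χ).trans (normalizerIn_le S P))
    refine ⟨ψ, hup hψ (lt_of_lt_of_le ?_ (Subgroup.card_le_of_le
      (le_extender hPS fun x => map_mem hχ x))), hag⟩
    rwa [isConj_card_eq (⟨χ, hχ, hχr⟩ : (prodSys F E p n).IsConj P R')]

/-- The classes meeting `T` in a centric subgroup have fully automized receptive members. -/
theorem base_class (hS : IsPGroup p S) (hF : F.IsSaturated p) (hE : E.IsNormalIn F p)
    (hP : (prodSys F E p 0).IsFullyNormalized P) (hB : Base F T P)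
    (hV : E.IsFullyNormalized (P ⊓ T)) (hbig : Big (prodSys F E p 0) p (Nat.card P)) :
    (prodSys F E p 0).IsFullyAutomized p P ∧ (prodSys F E p 0).IsReceptive P := by
  have hinv := hE.1.2.2
  have hT : F.StronglyClosed T := hinv.2.1
  set G := prodSys F E p 0
  set H := prodSys F E p (Nat.card P) with hHdef
  have hPS : P ≤ S := hP.1
  have : Finite P := finite_of_le hPS
  have : Finite (MulAut P) := finite_mulAut
  have hHG : ∀ X, H.Hom X ⊆ G.Hom X := fun X => prodSys_le_zero _ X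
  have hPH : H.IsFullyNormalized P := ⟨hPS, fun Q hQ =>
    hP.2 Q (CfsgLib.FusionQuot.isConj_of_subsystem hHG hQ)⟩
  set ℋ : Set (Subgroup Ω) := {Y | Nat.card P < Nat.card Y}
  have hgen : ∀ E' : Cfsg.FusionSystem S, (∀ Y ∈ ℋ, H.Hom Y ⊆ E'.Hom Y) → H ≤ E' :=
    fun E' hE' X => prodSys_le (fun Y hYS hY hn a ha => (mem_autGroup_iff_hom hYS).2
      (hE' Y hn ((mem_autGroup_iff_hom hYS).1 (isGen_prodSys _ Y hYS hY hn a ha)))) X
  have hout : ∀ Q, H.IsConj P Q → Q ∉ ℋ := fun Q hQ (h : Nat.card P < Nat.card Q) => by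
    rw [isConj_card_eq hQ] at h
    exact lt_irrefl _ h
  have hbigH : Big H p (Nat.card P) := big_prodSys hT hbig
  have hHle : H.autGroup P ≤ baseAut F E p P := by
    intro α hα
    rcases eq_or_lt_of_le hPS with hPeq | hlt
    · have hin : ∀ X, H.Hom X ⊆ (innerFusionSystem S).Hom X := fun X =>
        prodSys_le (fun Y hYS _ hn a _ => absurd hn (not_lt.2 (by
          rw [hPeq]
          exact Subgroup.card_le_of_le hYS))) X
      obtain ⟨-, g, hg, hgx⟩ := hin P ((mem_autGroup_iff_hom hPS).1 hα)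
      exact Subgroup.mem_sup_right (mem_autInducedBy_iff.2 ⟨g, hg, fun x => hgx x⟩)
    · refine (Subgroup.closure_le _).2 ?_ (autGroup_le_genAut hS ℋ hgen hPH hlt hout hbigH hα)
      rintro a (ha | ⟨ha, hco⟩)
      · exact Subgroup.mem_sup_right ha
      · have haG : a ∈ G.autGroup P :=
          (mem_autGroup_iff_hom hPS).2 (hHG P ((mem_autGroup_iff_hom hPS).1 ha))
        exact Subgroup.mem_sup_left (Subgroup.mem_sup_left (tr_mem_trGrp
          (tr_of_sideSub hS hF hE hPS hB (mem_sideSub_of_coprime hS hE hPS haG hco) hco)))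
  have hle : G.autGroup P ≤ baseAut F E p P := fun α hα => by
    obtain ⟨a, ha, g, hg, hgx⟩ :=
      (prodSys_decomp hT (Nat.card P) ((mem_autGroup_iff_hom hPS).1 hα)).1 P le_rfl hB rfl
    have hgm : (α * a⁻¹ : MulAut P) ∈ H.autGroup P := (mem_autGroup_iff_hom hPS).2 (by
      rwa [show P.subtype.comp (α * a⁻¹ : MulAut P).toMonoidHom = g from MonoidHom.ext fun y => by
        show ((α ((a⁻¹ : MulAut P) y) : P) : Ω) = g y
        exact (hgx _).trans (congrArg g (a.apply_symm_apply y))])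
    have h1 := mul_mem (hHle hgm) (Subgroup.mem_sup_left (Subgroup.mem_sup_left ha) :
      a ∈ baseAut F E p P)
    rwa [inv_mul_cancel_right] at h1
  refine ⟨⟨hPS, ?_⟩, hPS, fun Q φ hφ hr => ?_⟩
  · rw [le_antisymm hle (baseAut_le_prodSys hE hPS hB)]
    exact sylow_baseAut hS hF hE hP hB hV
  have hQS : Q ≤ S := dom_le hφ
  have hQP : G.IsConj Q P := ⟨φ, hφ, hr⟩
  rcases eq_or_lt_of_le hPS with hPeq | hlt
  · have hle' : extender S Q φ ≤ Q := by
      refine ((extender_le_normalizerIn φ).trans (normalizerIn_le S Q)).trans ?_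
      have : Finite S := inferInstance
      exact (Subgroup.eq_of_le_of_card_ge hQS (by rw [isConj_card_eq hQP, hPeq])).ge
    exact ⟨_, restrict_mem hφ hle', fun x hx hN => rfl⟩
  have hQB : Base F T Q := base_of_isConj hT (isConj_symm hQP) hB
  obtain ⟨f, hf, hfx⟩ := exists_iso hφ hr
  obtain ⟨a, ha, g, hg, hgx⟩ :=
    (prodSys_decomp hT (Nat.card P) hφ).1 Q le_rfl hQB (isConj_card_eq hQP)
  have hgr : g.range = P := by
    rw [← hr]
    refine le_antisymm ?_ ?_ <;> rintro _ ⟨x, rfl⟩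
    · refine ⟨a⁻¹ x, ?_⟩
      exact (hgx _).trans (congrArg g (a.apply_symm_apply x))
    · exact ⟨a x, (hgx x).symm⟩
  obtain ⟨g₀, hg₀⟩ := exists_extN hS ℋ hgen hPH hlt hout hbigH ⟨g, hg, hgr⟩
  have hg₀G : IsFIso G g₀ := hHG _ hg₀.iso
  set c : MulAut P := g₀.symm.trans f with hcdef
  have hc : c ∈ baseAut F E p P := hle ((mem_autGroup_iff hPS).2 (hg₀G.symm.trans hf))
  obtain ⟨hQS', ψ₀, hψ₀, hag₀⟩ := id hg₀
  have hEN : extender S Q φ ≤ normalizerIn S Q := extender_le_normalizerIn φ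
  set θ := ψ₀.comp (Subgroup.inclusion hEN) with hθ
  have hθN : θ.range ≤ normalizerIn S P := by
    rintro _ ⟨x, rfl⟩
    exact ExtN.map_mem (hQ := hQS') hψ₀ hag₀ _
  have hQE : Q ≤ extender S Q φ := le_extender hQS fun x => map_mem hφ x
  have hPθ : P ≤ θ.range := fun y hy => by
    obtain ⟨x, hx⟩ := g₀.surjective ⟨y, hy⟩
    exact ⟨Subgroup.inclusion hQE x, (hag₀ x).trans (congrArg Subtype.val hx)⟩
  obtain ⟨χ, hχ, hχc⟩ := exists_map_of_baseAut hS hF hE hP hB hV hc hPθ hθN (by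
    rintro _ ⟨⟨x, hx⟩, rfl⟩
    have hxn := hEN hx
    have h1 := (mem_extender_iff_congr f (fun y => (hfx y).symm) hxn.1 hxn.2).1 hx
    have h2 : MulAut.congr (c : P ≃* P) (MulAut.congr g₀ (conjAut Q x hxn.2)) =
        MulAut.congr f (conjAut Q x hxn.2) := MulEquiv.ext fun y => by simp [hcdef]
    rw [congr_conjAut_eq_of_extends (le_normalizerIn hQS) hag₀ hxn hxn.2, congr_eq_conj] at h2
    exact (h2 ▸ h1 : _))
  refine ⟨_, G.comp_mem (restrict_mem (hHG _ hψ₀) hEN) hχ fun x => ⟨x, rfl⟩, fun x hxQ hxN => ?_⟩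
  show χ ⟨θ ⟨x, hxN⟩, _⟩ = _
  refine (congrArg χ (Subtype.ext (hag₀ ⟨x, hxQ⟩) : _ = Subgroup.inclusion hPθ (g₀ ⟨x, hxQ⟩))).trans
    ((hχc _).trans ?_)
  simp [hcdef, hfx]

/-- A centric class outside the base classes has a large core normalizer. -/
theorem exists_star (hS : IsPGroup p S) (hF : F.IsSaturated p) (hE : E.IsNormalIn F p)
    (hPS : P ≤ S) (hB : ¬ Base F T P) (hc : (prodSys F E p 0).IsCentric P) :
    ∃ Q, (prodSys F E p 0).IsConj P Q ∧
      ¬ (autInducedBy S Q ⊓ coreAut (prodSys F E p 0) p Q ≤ Cfsg.Inn Q) := by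
  have hinv := hE.1.2.2
  have hT : F.StronglyClosed T := hinv.2.1
  set G := prodSys F E p 0
  have hVX : P ⊓ T ≤ P := inf_le_left
  have hXN : P ≤ normalizerIn S (P ⊓ T) := fun x hx =>
    ⟨hPS hx, mem_normalizer_inf hT (hPS hx) (Subgroup.le_normalizer hx)⟩
  obtain ⟨χ, hχ, hC⟩ : ∃ χ : P →* Ω, Spec F E p χ ∧
      ¬ centralizerIn T (img χ (P ⊓ T)) ≤ img χ (P ⊓ T) := by
    by_contra h
    push Not at h
    exact hB (exists_spec_fn hS hF hE P (P ⊓ T) inf_le_right hVX hXN h).1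
  set Q := χ.range with hQdef
  have hQ : G.IsConj P Q := isConj_of_mem hχ.1
  have hQS : Q ≤ S := range_le hχ.1
  have hQT : Q ⊓ T = img χ (P ⊓ T) := range_inf_eq hT (prodSys_sub 0 _ hχ.1)
  rw [← hQT] at hC
  set C := centralizerIn T (Q ⊓ T) with hCdef
  have hQC : Q ≤ Subgroup.normalizer (C : Set Ω) := by
    intro x hx
    have key : ∀ x ∈ Q, ∀ y ∈ C, x * y * x⁻¹ ∈ C := by
      intro x hx y hy
      refine ⟨conj_mem_of_mem_normalizer (stronglyClosed_le_normalizer hT (hQS hx)) hy.1,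
        Subgroup.mem_centralizer_iff.2 fun v hv => ?_⟩
      have hv' : x⁻¹ * v * x ∈ Q ⊓ T :=
        (Subgroup.mem_normalizer_iff''.1
          (mem_normalizer_inf hT (hQS hx) (Subgroup.le_normalizer hx)) v).1 hv
      have h1 := Subgroup.mem_centralizer_iff.1 hy.2 _ hv'
      calc v * (x * y * x⁻¹) = x * (x⁻¹ * v * x * y) * x⁻¹ := by group
        _ = x * (y * (x⁻¹ * v * x)) * x⁻¹ := by rw [h1]
        _ = x * y * x⁻¹ * v := by group
    refine Subgroup.mem_normalizer_iff.2 fun y => ⟨key x hx y, fun hy => ?_⟩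
    have h1 := key x⁻¹ (Q.inv_mem hx) _ hy
    simpa [mul_assoc] using h1
  have hCQ : ¬ C ≤ Q := fun h => hC fun y hy => ⟨h hy, hy.1⟩
  have hsupS : Q ⊔ C ≤ S := sup_le hQS ((centralizerIn_le _ _).trans hT.1)
  have : Finite (Q ⊔ C : Subgroup Ω) := finite_of_le hsupS
  obtain ⟨y, hy, hyQ⟩ := SetLike.exists_of_lt (lt_normalizerIn (hS.to_le hsupS)
    (lt_of_le_of_ne le_sup_left fun h => hCQ (le_sup_right.trans h.ge) : Q < Q ⊔ C))
  obtain ⟨d, hdC, hdQ, hdN⟩ : ∃ d, d ∈ C ∧ d ∉ Q ∧ d ∈ Subgroup.normalizer (Q : Set Ω) := by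
    have h1 : y ∈ (↑(Q ⊔ C) : Set Ω) := hy.1
    rw [Subgroup.coe_mul_of_left_le_normalizer_right Q C hQC] at h1
    obtain ⟨r, hr, d, hd, rfl⟩ := h1
    refine ⟨d, hd, fun h => hyQ (Q.mul_mem hr h), ?_⟩
    have h2 := mul_mem (inv_mem (Subgroup.le_normalizer hr)) hy.2
    simpa using h2
  have hdS : d ∈ S := hT.1 hdC.1
  have hGT := stronglyClosed_prodSys (E := E) (p := p) hT 0
  have hch : conjAut Q d hdN ∈ chainSub G T Q := mem_chainSub.2
    ⟨autInducedBy_le_autGroup G hQS (conjAut_mem_autInducedBy hdS hdN), fun x => by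
      show (x : Ω)⁻¹ * (d * x * d⁻¹) ∈ T
      rw [← mul_assoc, ← mul_assoc]
      exact T.mul_mem ((Subgroup.mem_normalizer_iff''.1
        (stronglyClosed_le_normalizer hT (hQS x.2)) d).1 hdC.1) (T.inv_mem hdC.1),
    fun x hx => Subtype.ext (by
      show d * x * d⁻¹ = (x : Ω)
      have h1 := Subgroup.mem_centralizer_iff.1 hdC.2 x ⟨x.2, hx⟩
      rw [← h1]
      group)⟩
  have hcore : conjAut Q d hdN ∈ coreAut G p Q := by
    refine ⟨⟨_, (mem_chainSub.1 hch).1⟩, ?_, rfl⟩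
    refine CfsgLib.Solvable.le_pCore (N := (chainSub G T Q).subgroupOf (G.autGroup Q))
      ⟨fun a ha g => conj_mem_chainSub hGT hQS g.2 ha⟩
      (chainSub_isPGroup hS hQS).comap_subtype hch
  refine ⟨Q, hQ, fun h => hdQ ?_⟩
  have hI := h ⟨conjAut_mem_autInducedBy hdS hdN, hcore⟩
  rw [inn_eq_autInducedBy] at hI
  obtain ⟨q, hqN, hq, hqe⟩ := exists_eq_conjAut hI
  have h1 := hc.2 Q hQ (inv_mul_mem_centralizerIn (le_refl S) (hQS hq) hdS hqe.symm)
  have h2 := Q.mul_mem hq h1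
  rwa [mul_inv_cancel_left] at h2

/-- The product of `E` with `S` is saturated. -/
theorem prodSys_isSaturated (hS : IsPGroup p S) (hF : F.IsSaturated p) (hE : E.IsNormalIn F p) :
    (prodSys F E p 0).IsSaturated p := by
  have hinv := hE.1.2.2
  have hT : F.StronglyClosed T := hinv.2.1
  set G := prodSys F E p 0
  suffices h : ∀ (k : ℕ) (R : Subgroup Ω), R ≤ S → Nat.card S ≤ Nat.card R + k →
      ∃ R', G.IsConj R R' ∧ G.IsFullyAutomized p R' ∧ G.IsReceptive R' from
    fun R hR => h (Nat.card S) R hR (Nat.le_add_left _ _)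
  intro k
  induction k using Nat.strong_induction_on with
  | _ k ih =>
  intro R hR hk
  have hbigR : Big G p (Nat.card R) := fun X hX hc => by
    have hcX := Descent.card_le_of_le hX
    exact ih (Nat.card S - Nat.card X) (by omega) X hX (by omega)
  by_cases hB : Base F T R
  · obtain ⟨P, hc, hP, hPB, hV⟩ := exists_rep hS hF hE hR hB
    exact ⟨P, hc, base_class hS hF hE hP hPB hV (isConj_card_eq hc ▸ hbigR)⟩
  obtain ⟨P, hc, hP⟩ := exists_isFullyNormalized G hR
  have hbig : Big G p (Nat.card P) := isConj_card_eq hc ▸ hbigR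
  have hPB : ¬ Base F T P := fun h => hB (base_of_isConj hT (isConj_symm hc) h)
  set ℋ : Set (Subgroup Ω) := {Y | Base F T Y}
  have hgen : ∀ E' : Cfsg.FusionSystem S, (∀ Y ∈ ℋ, G.Hom Y ⊆ E'.Hom Y) → G ≤ E' :=
    fun E' hE' X => prodSys_le (fun Y hYS hY hn a ha => (mem_autGroup_iff_hom hYS).2
      (hE' Y hY ((mem_autGroup_iff_hom hYS).1 (isGen_prodSys _ Y hYS hY hn a ha)))) X
  have hout : ∀ Q, G.IsConj P Q → Q ∉ ℋ := fun Q hQ h =>
    hPB (base_of_isConj hT (isConj_symm hQ) h)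
  have hlt : P < S := lt_of_le_of_ne hP.1 fun h => hPB (h ▸ base_top hT)
  have hext : ∀ Q, G.IsConj Q P → ∃ g : Q ≃* P, ExtN G g := fun Q hQ =>
    exists_extN hS ℋ hgen hP hlt hout hbig hQ
  have hK : P < coreNorm G p P := by
    by_cases hcen : G.IsCentric P
    · obtain ⟨Q, hQ, hQs⟩ := exists_star hS hF hE hP.1 hPB hcen
      exact lt_coreNorm_of_star hS hP.1 hext (isConj_symm hQ) hQs
    · exact lt_coreNorm_of_not_centric hS hP.1 hext hcen
  exact ⟨P, hc, saturated_class hS ℋ hgen hP hlt hout hbig hK⟩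

end CfsgLib.Fusion.NormalProduct
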