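import Cfsg.Agent.Lib.Fusion.NormalProduct.Index

/-!
# Uniqueness of the system with a prescribed residual over a group containing `T`

At a fully normalized centric `P` the automorphisms fixing the part in the hyperfocal subgroup are
induced by the group; so the automorphisms are either extendable or read off from that part.
-/

set_option autoImplicit false
set_option linter.unusedSectionVars false

namespace CfsgLib.Fusion.NormalProduct

open Cfsg Cfsg.FusionSystem CfsgLib.Fusion CfsgLib.Fusion.SatCriterion CfsgLib.Fusion.Balance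
open CfsgLib.Fusion.Inter hiding Setup

variable {Ω : Type*} [Group Ω] {S T : Subgroup Ω} {F : Cfsg.FusionSystem S}
variable {E : Cfsg.FusionSystem T} {p : ℕ}
variable {R P Q : Subgroup Ω} {D : Cfsg.FusionSystem R}

theorem congr_mem_autGroup {f : P ≃* Q} (hf : IsFIso D f) {a : MulAut P} (ha : a ∈ D.autGroup P) :
    MulAut.congr f a ∈ D.autGroup Q := by
  have h := (hf.autEquiv ⟨a, ha⟩).2
  rwa [IsFIso.autEquiv_apply] at h

theorem autGroup_le_of_move {G : Cfsg.FusionSystem R} {f : P ≃* Q} (hf : IsFIso D f)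
    (hfG : IsFIso G f) (h : D.autGroup Q ≤ G.autGroup Q) : D.autGroup P ≤ G.autGroup P := fun a ha => by
  have h1 := congr_mem_autGroup hfG.symm (h (congr_mem_autGroup hf ha))
  rwa [congr_symm_congr] at h1

variable [Finite R] [Fact p.Prime]

theorem disp_mem_hyperfocal (hPR : P ≤ R) {a : MulAut P} (ha : a ∈ D.autGroup P)
    (hco : (orderOf a).Coprime p) (x : P) :
    (x : Ω)⁻¹ * ((a x : P) : Ω) ∈ D.hyperfocalSubgroup p :=
  mem_hyperfocal_of_pResidual hPR (α := ⟨a, ha⟩)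
    (CfsgLib.Transfer.mem_pResidual_of_coprime (by rw [← Subgroup.orderOf_coe]; exact hco)) x

/-- Automorphisms fixing the part in the hyperfocal subgroup are induced at fully normalized subgroups. -/
theorem mem_autInducedBy_of_fix_hyperfocal (hR : IsPGroup p R) (hD : D.IsSaturated p)
    (hP : D.IsFullyNormalized P) {b : MulAut P} (hb : b ∈ D.autGroup P)
    (hfix : ∀ x : P, (x : Ω) ∈ D.hyperfocalSubgroup p → b x = x) : b ∈ autInducedBy R P := by
  have hsc := stronglyClosed_hyperfocal (F := D) hR hD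
  have hPR : P ≤ R := hP.1
  have : Finite P := finite_of_le hPR
  have : Finite (MulAut P) := finite_mulAut
  have hp : IsPGroup p (fixPart D (D.hyperfocalSubgroup p) P) := by
    refine Stability.isPGroup_of_coprime_eq_one fun β hβ => Subtype.ext (MulEquiv.ext fun x => ?_)
    have hco : (orderOf (β : MulAut P)).Coprime p := by rwa [Subgroup.orderOf_coe]
    refine Stability.eq_self_of_disp_fixed (hR.to_le hPR) _ hco (β.2.2 _ ?_)
    exact disp_mem_hyperfocal hPR β.2.1 hco x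
  exact le_autInducedBy_of_normal hR hD hP hp (fun _ h => h.1)
    (fun γ hγ k hk => conj_mem_fixPart hsc hPR hγ hk) ⟨hb, hfix⟩

/-- When the centralizer of the part in the hyperfocal subgroup is not inside `P`, automorphisms
extend to a larger group. -/
theorem mem_of_not_cen (hR : IsPGroup p R) (hD : D.IsSaturated p) (hP : D.IsFullyNormalized P)
    (hC : ¬ centralizerIn R (P ⊓ D.hyperfocalSubgroup p) ≤ P) {G : Cfsg.FusionSystem R}
    (hbig : ∀ X : Subgroup Ω, Nat.card P < Nat.card X → D.Hom X ⊆ G.Hom X) {a : MulAut P}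
    (ha : a ∈ D.autGroup P) : a ∈ G.autGroup P := by
  have hsc := stronglyClosed_hyperfocal (F := D) hR hD
  have hPR : P ≤ R := hP.1
  set V := P ⊓ D.hyperfocalSubgroup p
  set C := centralizerIn R V
  have hPC : P ≤ Subgroup.normalizer (C : Set Ω) := fun x hx =>
    mem_normalizer_centralizerIn (hPR hx)
      (mem_normalizer_inf hsc (hPR hx) (Subgroup.le_normalizer hx))
  have hsup : P ⊔ C ≤ R := sup_le hPR (centralizerIn_le _ _)
  have : Finite (P ⊔ C : Subgroup Ω) := finite_of_le hsup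
  obtain ⟨y, hy, hyP⟩ := SetLike.exists_of_lt (lt_normalizerIn (hR.to_le hsup)
    (lt_of_le_of_ne le_sup_left fun h => hC (le_sup_right.trans h.ge) : P < P ⊔ C))
  obtain ⟨d, hdC, hdP, hdN⟩ : ∃ d, d ∈ C ∧ d ∉ P ∧ d ∈ Subgroup.normalizer (P : Set Ω) := by
    have h1 : y ∈ (↑(P ⊔ C) : Set Ω) := hy.1
    rw [Subgroup.coe_mul_of_left_le_normalizer_right P C hPC] at h1
    obtain ⟨r, hr, d, hd, rfl⟩ := h1
    refine ⟨d, hd, fun h => hyP (P.mul_mem hr h), ?_⟩
    have h2 := mul_mem (inv_mem (Subgroup.le_normalizer hr)) hy.2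
    simpa using h2
  set X := P ⊔ (C ⊓ Subgroup.normalizer (P : Set Ω))
  have hXN : X ≤ normalizerIn R P :=
    sup_le (le_normalizerIn hPR) (inf_le_inf_right _ (centralizerIn_le _ _))
  have hPX : P < X := lt_of_le_of_ne le_sup_left fun h =>
    hdP (h.ge (Subgroup.mem_sup_right ⟨hdC, hdN⟩))
  have hiso : IsFIso D (a : P ≃* P) := (mem_autGroup_iff hPR).1 ha
  have hext : X ≤ extender R P (P.subtype.comp (a : P ≃* P).toMonoidHom) := by
    refine sup_le (le_extender hPR fun x => map_mem hiso x) fun g hg => ?_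
    have hgR : g ∈ R := hg.1.1
    refine (mem_extender_iff_congr (a : P ≃* P) (fun _ => rfl) hgR hg.2).2 ?_
    rw [congr_eq_conj]
    refine mem_autInducedBy_of_fix_hyperfocal hR hD hP (mul_mem (mul_mem ha
      (autInducedBy_le_autGroup D hPR (conjAut_mem_autInducedBy hgR hg.2))) (inv_mem ha))
      (conj_mem_fixPart hsc hPR ha ?_).2
    refine ⟨autInducedBy_le_autGroup D hPR (conjAut_mem_autInducedBy hgR hg.2), fun x hx => ?_⟩
    refine Subtype.ext ?_
    show g * x * g⁻¹ = (x : Ω)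
    rw [← Subgroup.mem_centralizer_iff.1 hg.1.2 x ⟨x.2, hx⟩]
    group
  obtain ⟨ψ, hψ, -, hag⟩ := hiso.exists_extension (isReceptive_of_isFullyNormalized hR hD hP)
    hPX.le hXN fun g hg => (mem_extender_iff_congr (a : P ≃* P) (fun _ => rfl) (hXN hg).1
      (hXN hg).2).1 (hext hg)
  exact (mem_autGroup_iff hPR).2 (mem_of_restrict
    (hbig X (Descent.card_lt_card_of_lt (hXN.trans (normalizerIn_le _ _)) hPX) hψ) hPX.le _
    fun x => (hag x).symm)

/-- Move `P` so that its part in the hyperfocal subgroup is fully normalized in `D₀`. -/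
theorem exists_move (hR : IsPGroup p R) (hD : D.IsSaturated p) {D₀ : Cfsg.FusionSystem R}
    (hD₀ : D₀.IsSaturated p) (hsub : D₀.IsSubsystemOf D) (hP : D.IsFullyNormalized P) :
    ∃ (P' : Subgroup Ω) (f : P ≃* P'), IsFIso D₀ f ∧ D.IsFullyNormalized P' ∧
      D₀.IsFullyNormalized (P' ⊓ D.hyperfocalSubgroup p) ∧
      ∀ G : Cfsg.FusionSystem R, (∀ X : Subgroup Ω, Nat.card P < Nat.card X →
        D₀.Hom X ⊆ G.Hom X) → IsFIso G f := by
  have hsc := stronglyClosed_hyperfocal (F := D) hR hD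
  have hPR : P ≤ R := hP.1
  set H := D.hyperfocalSubgroup p
  rcases eq_or_lt_of_le hPR with hPeq | hlt
  · refine ⟨P, MulEquiv.refl P, IsFIso.refl hPR, hP, ?_, fun G _ => IsFIso.refl hPR⟩
    rw [hPeq, inf_eq_right.2 hsc.1]
    exact ⟨hsc.1, fun U hU => by
      rw [CfsgLib.FusionQuot.eq_of_isConj_of_stronglyClosed hsc
        (CfsgLib.FusionQuot.isConj_of_subsystem hsub hU)]⟩
  set V := P ⊓ H with hVdef
  have hVR : V ≤ R := inf_le_left.trans hPR
  obtain ⟨V', hc, hV'⟩ := exists_isFullyNormalized D₀ hVR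
  obtain ⟨e, he, ψ, hψ, hψN, hag⟩ := exists_normalizer_map hR hD₀ hV' hc
  have hNle : normalizerIn R P ≤ normalizerIn R V := fun x hx =>
    ⟨hx.1, mem_normalizer_inf hsc hx.1 hx.2⟩
  have hPN : P ≤ normalizerIn R V := (le_normalizerIn hPR).trans hNle
  have hr := restrict_mem hψ hPN
  set P' := (ψ.comp (Subgroup.inclusion hPN)).range with hP'def
  obtain ⟨f, hf, hfx⟩ := exists_iso hr rfl
  have hfD : IsFIso D f := hsub _ hf
  have heq : P' ⊓ H = V' := by
    ext z
    constructor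
    · rintro ⟨hz, hzH⟩
      obtain ⟨x, hx⟩ := f.surjective ⟨z, hz⟩
      have hxH : (x : Ω) ∈ H := (mem_iff_of_iso hfD hsc x).1 (by rw [hx]; exact hzH)
      have h1 : (f x : Ω) = e ⟨x, x.2, hxH⟩ := (hfx x).trans (hag ⟨x, x.2, hxH⟩)
      rw [hx] at h1
      exact (show z = _ from h1) ▸ (e _).2
    · intro hz
      refine ⟨⟨⟨(e.symm ⟨z, hz⟩ : Ω), (e.symm ⟨z, hz⟩).2.1⟩, ?_⟩,
        conj_le hsc inf_le_right (CfsgLib.FusionQuot.isConj_of_subsystem hsub hc) hz⟩
      show ψ ⟨(e.symm ⟨z, hz⟩ : Ω), _⟩ = z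
      rw [hag, MulEquiv.apply_symm_apply]
  have : Finite (normalizerIn R P') := finite_of_le (normalizerIn_le _ _)
  refine ⟨P', f, hf, ⟨range_le hr, fun Q hQ => (hP.2 Q (isConj_trans hfD.isConj hQ)).trans ?_⟩,
    heq ▸ hV', fun G hG => ?_⟩
  · exact Nat.card_le_card_of_injective (fun x => (⟨ψ (Subgroup.inclusion hNle x), map_mem hψ _,
      map_mem_normalizer_of_extends (e := f) hPN (fun y => (hfx y).symm) (hNle x.2) x.2.2⟩ :
        normalizerIn R P')) fun a b hab =>
          Subgroup.inclusion_injective hNle (hom_inj hψ (Subtype.ext_iff.1 hab :))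
  · have hcard : Nat.card P < Nat.card (normalizerIn R V) :=
      lt_of_lt_of_le (card_lt_normalizer hR hlt) (by
        have : Finite (normalizerIn R V) := finite_of_le (normalizerIn_le _ _)
        exact Subgroup.card_le_of_le hNle)
    exact mem_of_restrict (hG _ hcard hψ) hPN _ fun x => hfx x

/-- A saturated system lies in a saturated subsystem with the same coprime automorphisms on
subgroups of the hyperfocal subgroup. -/
theorem le_of_agree_hyperfocal (hR : IsPGroup p R) (hD : D.IsSaturated p)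
    {D₀ : Cfsg.FusionSystem R} (hD₀ : D₀.IsSaturated p) (hsub : D₀.IsSubsystemOf D)
    (hK : ∀ V, V ≤ D.hyperfocalSubgroup p → ∀ a ∈ D.autGroup V, (orderOf a).Coprime p →
      a ∈ D₀.autGroup V) : ∀ U, D.Hom U ⊆ D₀.Hom U := by
  refine Descent.hom_le_of_aut_centric hR hD fun P₁ hP₁ _ hbig₁ => ?_
  obtain ⟨P, f, hf, hP, hV, -⟩ := exists_move hR hD hD₀ hsub hP₁
  refine autGroup_le_of_move (hsub _ hf) hf ?_
  have hbig : ∀ X : Subgroup Ω, Nat.card P < Nat.card X → D.Hom X ⊆ D₀.Hom X := fun X hX =>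
    hbig₁ X (Nat.card_congr f.toEquiv ▸ hX)
  clear hf hbig₁ f hP₁
  by_cases hC : centralizerIn R (P ⊓ D.hyperfocalSubgroup p) ≤ P
  swap
  · exact fun a ha => mem_of_not_cen hR hD hP hC hbig ha
  refine autGroup_le_of_coprime hR hD hP (fun a ha hco => ?_) (autInducedBy_le_autGroup _ hP.1)
  have hsc := stronglyClosed_hyperfocal (F := D) hR hD
  have hPR : P ≤ R := hP.1
  set V := P ⊓ D.hyperfocalSubgroup p with hVdef
  have hVP : V ≤ P := inf_le_left
  have hst : a ∈ setStab P V := mem_setStab_inf hsc hPR ha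
  set γ := resHom hVP ⟨a, hst⟩
  have hγ : γ ∈ D₀.autGroup V := hK V inf_le_right γ (resHom_mem_autGroup hVP hPR ⟨a, hst⟩ ha)
    (Inter.coprime_of_agree hVP (agree_resHom hVP hst) hco)
  have hPN : P ≤ normalizerIn R V := fun x hx =>
    ⟨hPR hx, mem_normalizer_inf hsc (hPR hx) (Subgroup.le_normalizer hx)⟩
  have hag' : ∀ v : V, ((a (Subgroup.inclusion hVP v) : P) : Ω) = (γ v : Ω) := fun v =>
    congrArg Subtype.val (agree_resHom hVP hst v)
  obtain ⟨χ, hχ, -, hχγ⟩ := ((mem_autGroup_iff (hVP.trans hPR)).1 hγ).exists_extension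
    (isReceptive_of_isFullyNormalized hR hD₀ hV) hVP hPN fun g hg => by
      rw [congr_eq_conj]
      have hk : ((a ⟨g, hg⟩ : P) : Ω) ∈ normalizerIn R V := hPN (a _).2
      have h1 : γ * conjAut V g (hPN hg).2 * γ⁻¹ = conjAut V ((a ⟨g, hg⟩ : P) : Ω) hk.2 := by
        refine Agree.unique (hRU := hVP) (((show Agree hVP a γ from agree_resHom hVP hst).mul
          (agree_conjAut hVP (Subgroup.le_normalizer hg) (hPN hg).2)).mul
          (show Agree hVP a γ from agree_resHom hVP hst).inv) ?_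
        rw [conj_conjAut_self a ⟨g, hg⟩ _ (Subgroup.le_normalizer (a _).2)]
        exact agree_conjAut hVP _ hk.2
      rw [h1]
      exact conjAut_mem_autInducedBy hk.1 _
  have hmap : ∀ x : P, χ x ∈ P := by
    intro x
    have hz : ((a x : P) : Ω)⁻¹ * χ x ∈ centralizerIn R V := by
      refine ⟨R.mul_mem (R.inv_mem (hPR (a x).2)) (map_mem hχ x),
        Subgroup.mem_centralizer_iff.2 fun v hv => ?_⟩
      obtain ⟨u, hu⟩ := γ.surjective ⟨v, hv⟩
      have hxu := conj_mem_of_mem_normalizer (hPN x.2).2 u.2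
      have h1 : χ (x * Subgroup.inclusion hVP u * x⁻¹) =
          ((a (x * Subgroup.inclusion hVP u * x⁻¹) : P) : Ω) :=
        (hχγ ⟨_, hxu⟩).trans (hag' ⟨_, hxu⟩).symm
      rw [map_mul, map_mul, map_inv, map_mul, map_mul, map_inv] at h1
      have h2 : χ (Subgroup.inclusion hVP u) = v := (hχγ u).trans (congrArg Subtype.val hu)
      have h3 : ((a (Subgroup.inclusion hVP u) : P) : Ω) = v :=
        (hag' u).trans (congrArg Subtype.val hu)
      rw [Subgroup.coe_mul, Subgroup.coe_mul, Subgroup.coe_inv, h2, h3] at h1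
      calc v * (((a x : P) : Ω)⁻¹ * χ x)
          = ((a x : P) : Ω)⁻¹ * (((a x : P) : Ω) * v * ((a x : P) : Ω)⁻¹) * χ x := by group
        _ = ((a x : P) : Ω)⁻¹ * χ x * v := by rw [← h1]; group
    have h4 := P.mul_mem (a x).2 (hC hz)
    rwa [mul_inv_cancel_left] at h4
  have : Finite P := finite_of_le hPR
  obtain ⟨b, hb, hbx⟩ := LayerCore.exists_aut_of_mapsTo hχ hmap
  have hfix : b⁻¹ * a ∈ autInducedBy R P := by
    refine mem_autInducedBy_of_fix_hyperfocal hR hD hP (mul_mem (inv_mem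
      (CfsgLib.FusionQuot.autGroup_le_of_subsystem hsub P hb)) ha) fun x hx => b.injective ?_
    rw [MulAut.mul_apply, MulAut.apply_inv_self]
    exact Subtype.ext ((hag' ⟨x, x.2, hx⟩).trans ((hbx x).trans (hχγ ⟨x, x.2, hx⟩)).symm)
  have h1 := mul_mem hb (autInducedBy_le_autGroup D₀ hPR hfix)
  rwa [mul_inv_cancel_left] at h1

variable [Finite S]

theorem centralizerIn_inf_eq (hTS : T ≤ S) (V : Subgroup Ω) :
    centralizerIn S V ⊓ T = centralizerIn T V := by
  ext y
  exact ⟨fun h => ⟨h.2, h.1.2⟩, fun h => ⟨⟨hTS h.1, h.2⟩, h.1⟩⟩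

/-- A saturated subsystem with hyperfocal subgroup and residual those of `E` lies in the product. -/
theorem le_prodSys_of_residual (hS : IsPGroup p S) (hF : F.IsSaturated p) (hE : E.IsNormalIn F p)
    (hRS : R ≤ S) (hTR : T ≤ R) (hD : D.IsSaturated p) (hDF : D.IsSubsystemOf F)
    (hH : D.hyperfocalSubgroup p = E.hyperfocalSubgroup p)
    (hK₁ : ∀ V, V ≤ E.hyperfocalSubgroup p →
      (pResidual p (D.autGroup V)).map (D.autGroup V).subtype ≤ E.autGroup V)
    (hK₂ : ∀ (U : Subgroup Ω) (φ : U →* Ω), φ ∈ E.Hom U → U ≤ E.hyperfocalSubgroup p →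
      ∃ t ∈ T, (MulAut.conj t).toMonoidHom.comp φ ∈ D.Hom U) :
    D.IsSubsystemOf (prodSys F E p 0) := by
  have hinv := hE.1.2.2
  have hT : F.StronglyClosed T := hinv.2.1
  have hTp : IsPGroup p T := hS.to_le hT.1
  have : Finite T := finite_of_le hT.1
  have hR : IsPGroup p R := hS.to_le hRS
  have hsc := stronglyClosed_hyperfocal (F := D) hR hD
  set G := PPowerIndex.restrictTo (prodSys F E p 0) R hRS with hGdef
  intro U φ hφ
  refine (Descent.hom_le_of_aut_centric (E := G) hR hD (fun P₁ hP₁ _ hbig₁ => ?_) U hφ).1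
  obtain ⟨P, f, hf, hP, hV, hfG⟩ := exists_move hR hD hD (fun _ => subset_rfl) hP₁
  refine autGroup_le_of_move hf (hfG G hbig₁) ?_
  have hbig : ∀ X : Subgroup Ω, Nat.card P < Nat.card X → D.Hom X ⊆ G.Hom X := fun X hX =>
    hbig₁ X (Nat.card_congr f.toEquiv ▸ hX)
  clear hfG hf hbig₁ f hP₁ hφ φ U
  by_cases hC : centralizerIn R (P ⊓ D.hyperfocalSubgroup p) ≤ P
  swap
  · exact fun a ha => mem_of_not_cen hR hD hP hC hbig ha
  have hPR : P ≤ R := hP.1
  have hPS : P ≤ S := hPR.trans hRS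
  have hto : ∀ a : MulAut P, a ∈ (prodSys F E p 0).autGroup P → a ∈ G.autGroup P := fun a ha =>
    (mem_autGroup_iff_hom hPR).2 ⟨(mem_autGroup_iff_hom hPS).1 ha, hPR, fun x => hPR (a x).2⟩
  refine autGroup_le_of_coprime hR hD hP (fun a ha hco => hto a ?_) (autInducedBy_le_autGroup _ hPR)
  set H := D.hyperfocalSubgroup p with hHdef
  have hHT : H ≤ T := hH.le.trans (hyperfocalSubgroup_le_S E p)
  set V := P ⊓ H with hVdef
  have hVP : V ≤ P := inf_le_left
  have hVT : V ≤ T := inf_le_right.trans hHT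
  have : Finite P := finite_of_le hPR
  have : Finite (MulAut P) := finite_mulAut
  have hst : a ∈ setStab P V := mem_setStab_inf hsc hPR ha
  set γ := resHom hVP ⟨a, hst⟩
  have haγ : Agree hVP a γ := agree_resHom hVP hst
  have hγD : γ ∈ D.autGroup V := resHom_mem_autGroup hVP hPR ⟨a, hst⟩ ha
  have hγco : (orderOf γ).Coprime p := Inter.coprime_of_agree hVP haγ hco
  have hγ : γ ∈ E.autGroup V := hK₁ V (inf_le_right.trans hH.le) ⟨⟨γ, hγD⟩,
    CfsgLib.Transfer.mem_pResidual_of_coprime (by rw [← Subgroup.orderOf_coe]; exact hγco), rfl⟩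
  -- `V` is fully centralized in `E`
  have hfc : E.IsFullyCentralized V := by
    refine ⟨hVT, fun W hW => ?_⟩
    obtain ⟨φ, hφ, rfl⟩ := hW
    obtain ⟨t, ht, hφ'⟩ := hK₂ V φ hφ (inf_le_right.trans hH.le)
    set W' := ((MulAut.conj t).toMonoidHom.comp φ).range
    obtain ⟨e, he, ψ, hψ, hψN, hag⟩ := exists_normalizer_map hR hD hV (isConj_symm (isConj_of_mem hφ'))
    have hmem : ∀ c : centralizerIn T φ.range, t * (c : Ω) * t⁻¹ ∈ centralizerIn T W' := fun c =>
      ⟨T.mul_mem (T.mul_mem ht c.2.1) (T.inv_mem ht), Subgroup.mem_centralizer_iff.2 (by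
        rintro _ ⟨x, rfl⟩
        show t * φ x * t⁻¹ * (t * c * t⁻¹) = t * c * t⁻¹ * (t * φ x * t⁻¹)
        have h1 := Subgroup.mem_centralizer_iff.1 c.2.2 (φ x) ⟨x, rfl⟩
        calc t * φ x * t⁻¹ * (t * c * t⁻¹) = t * (φ x * c) * t⁻¹ := by group
          _ = t * ((c : Ω) * φ x) * t⁻¹ := by rw [h1]
          _ = _ := by group)⟩
    have hle : centralizerIn T W' ≤ normalizerIn R W' :=
      (inf_le_inf_right _ hTR).trans (centralizerIn_le_normalizerIn R W')
    have hmem' : ∀ c : centralizerIn T W', ψ (Subgroup.inclusion hle c) ∈ centralizerIn T V := fun c =>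
      ⟨stronglyClosed_apply_mem hT (hDF _ hψ) (Subgroup.inclusion hle c) c.2.1,
        (map_mem_centralizer_iff_of_extends (le_normalizerIn (isConj_le_left
          (isConj_symm (isConj_of_mem hφ')))) hag (hle c.2) (hle c.2).2).2 c.2.2⟩
    have : Finite (centralizerIn T V) := finite_of_le (centralizerIn_le _ _)
    exact Nat.card_le_card_of_injective
      (fun c => (⟨_, hmem' ⟨_, hmem c⟩⟩ : centralizerIn T V))
      fun c c' h => Subtype.ext (mul_left_cancel (mul_right_cancel (congrArg Subtype.val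
        (Subgroup.inclusion_injective hle (hom_inj hψ (Subtype.ext_iff.1 h :))) :)))
  set V₁ := V ⊔ centralizerIn T V with hV₁def
  have hV₁c : E.IsCentric V₁ := isCentric_sup hTp hE.1.1 hfc
  have hCP : centralizerIn T V ≤ P := (inf_le_inf_right _ hTR).trans hC
  have hV₁P : V₁ ≤ P := sup_le hVP hCP
  have hV₁T : V₁ ≤ T := sup_le hVT (centralizerIn_le _ _)
  have hV₁N : V₁ ≤ normalizerIn T V := sup_le (le_normalizerIn hVT) (centralizerIn_le_normalizerIn T V)
  have haF : a ∈ F.autGroup P := CfsgLib.FusionQuot.autGroup_le_of_subsystem hDF P ha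
  -- maps agreeing with `γ` preserve `V₁`
  have hmapC : ∀ {X : Subgroup Ω} (hVX : V ≤ X) (ψ : X →* Ω),
      (∀ c : X, (c : Ω) ∈ T → ψ c ∈ T) → (∀ v : V, ψ (Subgroup.inclusion hVX v) = (γ v : Ω)) →
      ∀ x : X, (x : Ω) ∈ V₁ → V₁ ≤ X → ψ x ∈ V₁ := by
    intro X hVX ψ hψT hψγ x hx hV₁X
    have hle : V₁ ≤ ((V₁.comap ψ)).map X.subtype := by
      refine sup_le (fun v hv => ⟨⟨v, hVX hv⟩, ?_, rfl⟩) fun c hc =>
        ⟨⟨c, hV₁X (Subgroup.mem_sup_right hc)⟩, ?_, rfl⟩
      · show ψ (Subgroup.inclusion hVX ⟨v, hv⟩) ∈ V₁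
        rw [hψγ]
        exact Subgroup.mem_sup_left (γ _).2
      · refine Subgroup.mem_sup_right ⟨hψT _ hc.1, Subgroup.mem_centralizer_iff.2 fun v hv => ?_⟩
        obtain ⟨u, hu⟩ := γ.surjective ⟨v, hv⟩
        rw [show v = ψ (Subgroup.inclusion hVX u) by rw [hψγ, hu], ← map_mul, ← map_mul]
        exact congrArg ψ (Subtype.ext (Subgroup.mem_centralizer_iff.1 hc.2 u u.2))
    obtain ⟨y, hy, hyx⟩ := hle hx
    exact (Subtype.ext hyx : y = x) ▸ hy
  obtain ⟨μ, hμ, hμa⟩ := exists_res hV₁P hPS haF fun x =>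
    hmapC hVP (P.subtype.comp a.toMonoidHom)
      (fun c hc => stronglyClosed_apply_mem hT ((mem_autGroup_iff_hom hPS).1 haF) c hc)
      (fun v => congrArg Subtype.val (haγ v)) (Subgroup.inclusion hV₁P x) x.2 hV₁P
  have hμγ : Agree le_sup_left μ γ := agree_of_agree hμa haγ
  have hμco : (orderOf μ).Coprime p := Inter.coprime_of_agree hV₁P hμa hco
  have : Finite V₁ := finite_of_le (hV₁T.trans hT.1)
  have : Finite (MulAut V₁) := finite_mulAut
  have hγiso : IsFIso E (γ : V ≃* V) := (mem_autGroup_iff hVT).1 hγ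
  have hext : V₁ ≤ extender T V (V.subtype.comp (γ : V ≃* V).toMonoidHom) :=
    sup_le (le_extender hVT fun x => map_mem hγiso x) (centralizerIn_le_extender _)
  obtain ⟨χ, hχ, -, hχγ⟩ := hγiso.exists_extension
    (isReceptive_of_isFullyCentralized hTp hE.1.1 hfc) le_sup_left hV₁N fun g hg =>
      (mem_extender_iff_congr (γ : V ≃* V) (fun _ => rfl) (hV₁N hg).1 (hV₁N hg).2).1 (hext hg)
  obtain ⟨b₀, hb₀, hb₀x⟩ := LayerCore.exists_aut_of_mapsTo hχ fun x =>
    hmapC le_sup_left χ (fun c _ => map_mem hχ c) (fun v => hχγ v) x x.2 le_rfl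
  obtain ⟨n, hnco, hnγ⟩ := exists_coprime_pow (p := p) (le_sup_left : V ≤ V₁) hγco b₀
    fun v => Subtype.ext ((hb₀x _).trans (hχγ v))
  set b := b₀ ^ n
  have hb : b ∈ E.autGroup V₁ := pow_mem hb₀ n
  -- the two differ by the stabilizer of `V ≤ V₁`
  have hV₁H : ∀ y ∈ V₁, y ∈ H → y ∈ V := fun y hy hyH => ⟨hV₁P hy, hyH⟩
  have hbd : ∀ x : V₁, (x : Ω)⁻¹ * ((b x : V₁) : Ω) ∈ H := fun x =>
    hH.ge (mem_hyperfocal_of_pResidual hV₁T (α := ⟨b, hb⟩)
      (CfsgLib.Transfer.mem_pResidual_of_coprime (by rw [← Subgroup.orderOf_coe]; exact hnco)) x)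
  have hμd : ∀ x : V₁, (x : Ω)⁻¹ * ((μ x : V₁) : Ω) ∈ H := fun x => by
    have h1 := disp_mem_hyperfocal hPR ha hco (Subgroup.inclusion hV₁P x)
    rwa [hμa] at h1
  have hbF : b ∈ F.autGroup V₁ := CfsgLib.FusionQuot.autGroup_le_of_subsystem hinv.1 V₁ hb
  have hab : b⁻¹ * μ ∈ chainSub F V V₁ := by
    refine mem_chainSub.2 ⟨mul_mem (inv_mem hbF) hμ, fun x => ?_, fun x hx => b.injective ?_⟩
    · refine hV₁H _ (V₁.mul_mem (V₁.inv_mem x.2) ((b⁻¹ * μ) x).2) ?_
      have h1 := H.mul_mem (hμd x) (H.inv_mem (hbd ((b⁻¹ * μ) x)))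
      rwa [MulAut.mul_apply, MulAut.apply_inv_self, mul_inv_rev, inv_inv, mul_assoc,
        mul_inv_cancel_left] at h1
    · rw [MulAut.mul_apply, MulAut.apply_inv_self]
      exact (hμγ ⟨x, hx⟩).trans (hnγ ⟨x, hx⟩).symm
  have hkey : ∀ g : MulAut V₁, g ∈ F.autGroup V₁ → (∀ x : V₁, (x : Ω) ∈ V ↔ ((g x : V₁) : Ω) ∈ V) →
      ∀ k ∈ chainSub F V V₁, g * k * g⁻¹ ∈ chainSub F V V₁ := by
    intro g hg hgV k hk
    obtain ⟨hkF, hkd, hkf⟩ := mem_chainSub.1 hk
    refine mem_chainSub.2 ⟨mul_mem (mul_mem hg hkF) (inv_mem hg), fun x => ?_, fun x hx => ?_⟩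
    · obtain ⟨y, rfl⟩ := g.surjective x
      have h1 := (hgV (y⁻¹ * k y)).1 (hkd y)
      rwa [map_mul, map_inv, Subgroup.coe_mul, Subgroup.coe_inv,
        show g (k y) = (g * k * g⁻¹) (g y) by simp [MulAut.mul_apply]] at h1
    · obtain ⟨y, rfl⟩ := g.surjective x
      rw [MulAut.mul_apply, MulAut.inv_apply_self, MulAut.mul_apply, hkf y ((hgV y).2 hx)]
  have hbV : ∀ x : V₁, (x : Ω) ∈ V ↔ ((b x : V₁) : Ω) ∈ V := fun x => by
    refine ⟨fun hx => ?_, fun hx => ?_⟩
    · rw [show b x = Subgroup.inclusion le_sup_left (γ ⟨x, hx⟩) from hnγ ⟨x, hx⟩]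
      exact (γ _).2
    · obtain ⟨v, hv⟩ := γ.surjective ⟨_, hx⟩
      rw [← b.injective ((hnγ v).trans (Subtype.ext (congrArg Subtype.val hv :)) :
        b (Subgroup.inclusion le_sup_left v) = b x)]
      exact v.2
  have hbN : b ∈ Subgroup.normalizer (chainSub F V V₁ : Set (MulAut V₁)) := by
    refine Subgroup.mem_normalizer_iff.2 fun k => ⟨hkey b hbF hbV k, fun hk => ?_⟩
    have h1 := hkey b⁻¹ (inv_mem hbF) (fun x => by
      rw [hbV (b⁻¹ x), MulAut.apply_inv_self]) _ hk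
    simpa [mul_assoc] using h1
  obtain ⟨m, hm, hmeq⟩ := exists_conj_of_coset (chainSub_isPGroup hS (hV₁T.trans hT.1)) hbN hμco
    hnco hab
  have hμE : μ ∈ E.autGroup V₁ := hmeq ▸
    CfsgLib.FusionQuot.conj_mem_autGroup_of_invariant hinv hV₁T (mem_chainSub.1 hm).1 hb
  -- up to `P ⊓ T`
  set V₂ := P ⊓ T with hV₂def
  have hV₁V₂ : V₁ ≤ V₂ := le_inf hV₁P hV₁T
  have hV₂N : V₂ ≤ Subgroup.normalizer (V₁ : Set Ω) := fun g hg => by
    have hgV := mem_normalizer_inf hsc (hPR hg.1) (Subgroup.le_normalizer hg.1)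
    refine normalizer_sup_of_mem hgV ?_
    rw [← centralizerIn_inf_eq hT.1]
    exact mem_normalizer_inf hT (hPS hg.1) (mem_normalizer_centralizerIn (hPS hg.1) hgV)
  have hst₂ : a ∈ setStab P V₂ := mem_setStab_inf hT hPS haF
  set δ := resHom (inf_le_left : V₂ ≤ P) ⟨a, hst₂⟩
  have haδ : Agree inf_le_left a δ := agree_resHom inf_le_left hst₂
  have hδ : δ ∈ E.autGroup V₂ := coprime_mem_of_centric hS hE.1.1 hinv inf_le_right hV₁c hV₁V₂ hV₂N
    (resHom_mem_autGroup inf_le_left hPS ⟨a, hst₂⟩ haF) (Inter.coprime_of_agree inf_le_left haδ hco)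
    hμE (agree_of_agree haδ hμa)
  have hB : Base F T P := IsTC.mono (Comp.isTC_of_isCentric hinv hV₁c) hV₁V₂ inf_le_right
  have hside : a ∈ sideSub F E P := Balance.mem_sideSub.2
    ⟨haF, fun x => hHT (disp_mem_hyperfocal hPR ha hco x), δ, hδ, haδ⟩
  exact tr_mem_prodSys hPS hB (tr_of_sideSub hS hF hE hPS hB hside hco)

end CfsgLib.Fusion.NormalProduct
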